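import Mathlib
import Cfsg.Prelude.Def_Solvable
import Cfsg.Agent.Lib.Cores

/-!
# Overgroups of a Sylow `p`-subgroup: the dichotomy "whole group, or normalises a nontrivial `p`-subgroup" (helper248)

* `Dich p G` : there is a `p`-subgroup `U` of index prime to `p` such that every subgroup `P ≥ U` is `⊤` or normalises a
  nontrivial `p`-subgroup `V ≤ P`;
* `Dich.eq_top` : then a subgroup of index prime to `p` with `O_p = 1` is the whole group;
* `Dich.of_equiv`.
-/

set_option autoImplicit false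

namespace Cfsg.Agent.H248.Ovg

open Subgroup Cfsg

/-- every overgroup of the `p`-subgroup `U` of index prime to `p` is the whole group or normalises a nontrivial
`p`-subgroup of itself -/
def Dich (p : ℕ) (G : Type*) [Group G] : Prop :=
  ∃ U : Subgroup G, IsPGroup p U ∧ ¬ p ∣ U.index ∧
    ∀ P : Subgroup G, U ≤ P → P = ⊤ ∨ ∃ V : Subgroup G, V ≠ ⊥ ∧ IsPGroup p V ∧ V ≤ P ∧ P ≤ normalizer (V : Set G)

variable {p : ℕ} {G : Type*} [Group G]

/-- a subgroup with `O_p = 1` does not normalise a nontrivial `p`-subgroup of itself -/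
theorem false_of_pCore {M V : Subgroup G} (hM : pCore p ↥M = ⊥) (hV : V ≠ ⊥) (hVp : IsPGroup p V) (hVM : V ≤ M)
    (hMV : M ≤ normalizer (V : Set G)) : False := by
  have h1 : (V.subgroupOf M).Normal := by
    refine ⟨fun v hv g => ?_⟩
    rw [mem_subgroupOf] at hv ⊢
    exact (mem_normalizer_iff.1 (hMV g.2) _).1 hv
  have h2 : IsPGroup p ↥(V.subgroupOf M) :=
    hVp.comap_of_injective M.subtype (subtype_injective _)
  have h3 := Lib.Cores.le_pCore h1 h2
  rw [hM, le_bot_iff, subgroupOf_eq_bot, disjoint_iff_inf_le, inf_eq_left.2 hVM] at h3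
  exact hV (le_bot_iff.1 h3)

/-- a subgroup of index prime to `p` contains a conjugate of every `p`-subgroup -/
theorem exists_conj_le [Finite G] [Fact p.Prime] {U M : Subgroup G} (hU : IsPGroup p U) (hM : ¬ p ∣ M.index) :
    ∃ g : G, U.map (MulAut.conj g).toMonoidHom ≤ M := by
  -- a Sylow subgroup of `M` is a Sylow subgroup of `G`
  obtain ⟨S⟩ : Nonempty (Sylow p ↥M) := inferInstance
  let S' : Subgroup G := (S : Subgroup ↥M).map M.subtype
  have hS' : IsPGroup p S' := S.isPGroup'.map _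
  have hidx : ¬ p ∣ S'.index := by
    have h1 : S'.index = (S : Subgroup ↥M).index * M.index := by
      have := Subgroup.index_map_subtype (S : Subgroup ↥M)
      exact this
    rw [h1, Nat.Prime.dvd_mul Fact.out]
    rintro (h2 | h2)
    · exact S.not_dvd_index h2
    · exact hM h2
  obtain ⟨Q, hQ⟩ := hU.exists_le_sylow
  let S'' : Sylow p G := hS'.toSylow hidx
  obtain ⟨g, hg⟩ := MulAction.exists_smul_eq G Q S''
  refine ⟨g, ?_⟩
  have h3 : ((g • Q : Sylow p G) : Subgroup G) ≤ M := by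
    rw [hg]
    exact map_subtype_le _
  refine le_trans ?_ h3
  rintro _ ⟨u, hu, rfl⟩
  rw [Sylow.coe_subgroup_smul]
  exact ⟨u, hQ hu, rfl⟩

/-- the conjugate of a subgroup with `O_p = 1` -/
theorem pCore_map_eq_bot {H : Type*} [Group H] (e : G ≃* H) {M : Subgroup G} (hM : pCore p ↥M = ⊥) :
    pCore p ↥(M.map e.toMonoidHom) = ⊥ := by
  have e' : ↥M ≃* ↥(M.map e.toMonoidHom) := M.equivMapOfInjective e.toMonoidHom e.injective
  rw [← Lib.Cores.map_equiv_pCore e' p, hM, Subgroup.map_bot]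

/-- **the dichotomy implies the theorem** -/
theorem Dich.eq_top [Finite G] [Fact p.Prime] (hG : Dich p G) (M : Subgroup G) (hM : pCore p ↥M = ⊥)
    (hidx : ¬ p ∣ M.index) : M = ⊤ := by
  obtain ⟨U, hU, hUi, hP⟩ := hG
  obtain ⟨g, hg⟩ := exists_conj_le hU hidx
  have h1 : U ≤ M.map (MulAut.conj g⁻¹).toMonoidHom := by
    intro u hu
    refine ⟨g * u * g⁻¹, hg ⟨u, hu, rfl⟩, ?_⟩
    change g⁻¹ * (g * u * g⁻¹) * g⁻¹⁻¹ = u
    group
  rcases hP _ h1 with h2 | ⟨V, hV, hVp, hVM, hMV⟩
  · rw [eq_top_iff]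
    intro x _
    have h3 : g⁻¹ * x * g ∈ M.map (MulAut.conj g⁻¹).toMonoidHom := by rw [h2]; trivial
    obtain ⟨y, hy, e⟩ := h3
    have e' : g⁻¹ * y * g⁻¹⁻¹ = g⁻¹ * x * g := e
    rw [inv_inv] at e'
    have e2 : y = x := by
      have := congrArg (fun z => g * z * g⁻¹) e'
      simpa [mul_assoc] using this
    rwa [← e2]
  · exact (false_of_pCore (pCore_map_eq_bot (MulAut.conj g⁻¹) hM) hV hVp hVM hMV).elim

/-- conversely -/
theorem Dich.of_eq_top [Finite G] [Fact p.Prime]
    (h : ∀ M : Subgroup G, pCore p ↥M = ⊥ → ¬ p ∣ M.index → M = ⊤) : Dich p G := by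
  obtain ⟨S⟩ : Nonempty (Sylow p G) := inferInstance
  refine ⟨S, S.isPGroup', S.not_dvd_index, fun P hP => ?_⟩
  by_cases h1 : pCore p ↥P = ⊥
  · left
    refine h P h1 fun h2 => S.not_dvd_index (h2.trans ?_)
    exact Subgroup.index_dvd_of_le hP
  · right
    refine ⟨(pCore p ↥P).map P.subtype, ?_, (Lib.Cores.pCore_isPGroup p).map _, map_subtype_le _, ?_⟩
    · intro h2
      exact h1 ((Subgroup.map_eq_bot_iff_of_injective _ P.subtype_injective).1 h2)
    · intro g hg
      rw [mem_normalizer_iff]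
      intro x
      constructor
      · rintro ⟨y, hy, rfl⟩
        refine ⟨⟨g, hg⟩ * y * ⟨g, hg⟩⁻¹, (Lib.Cores.pCore_normal p).conj_mem _ hy _, rfl⟩
      · rintro ⟨y, hy, e⟩
        refine ⟨⟨g, hg⟩⁻¹ * y * ⟨g, hg⟩, ?_, ?_⟩
        · have := (Lib.Cores.pCore_normal (G := ↥P) p).conj_mem _ hy (⟨g, hg⟩⁻¹)
          rwa [inv_inv] at this
        · change g⁻¹ * (y : G) * g = x
          have e' : (y : G) = g * x * g⁻¹ := e
          rw [e']
          group

theorem Dich.of_equiv {H : Type*} [Group H] [Finite G] [Finite H] [Fact p.Prime] (e : G ≃* H) (hG : Dich p G) :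
    Dich p H := by
  refine Dich.of_eq_top fun M hM hidx => ?_
  have h1 : M.map e.symm.toMonoidHom = ⊤ := by
    refine hG.eq_top _ (pCore_map_eq_bot e.symm hM) ?_
    have : (M.map e.symm.toMonoidHom).index = M.index :=
      Subgroup.index_map_equiv M e.symm
    rwa [this]
  rw [eq_top_iff]
  intro x _
  have h2 : e.symm x ∈ M.map e.symm.toMonoidHom := by rw [h1]; trivial
  obtain ⟨y, hy, e2⟩ := h2
  have : y = x := e.symm.injective e2
  rwa [← this]

end Cfsg.Agent.H248.Ovg
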