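import Mathlib
import Cfsg.Prelude.Def_Solvable
import Cfsg.Agent.Lib.Cores
import Cfsg.Agent.Nodes.LeviDec
import Cfsg.Agent.KFacts.RgdSyl

/-!
# Tits' lemma for root group data: overgroups of the Sylow `p`-subgroup `U` (helper248)

`R : RGD cs h p T n X`, `U = ⟨X a : a > 0⟩ ≤ P ≤ GG` (no torus in `P`), `JU T n P = {i | ∃ t ∈ T, t * n i ∈ P}`:
* `mem_WJ_of_mem_U` : `k ∈ P` over `w` implies `w ∈ W_J`;
* `le_PJ` : `P ≤ P_J`; `VJ_le` : `V_J ≤ P`;
* `X_le` : `X x ≤ P` for all roots `x` of `J` (so `P` contains the Levi root groups);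
* `eq_top_of_univ` : `J = univ` and `G` generated by the root groups imply `P = ⊤`;
* `eq_top_of_core` : a subgroup of index prime to `p` with `O_p = 1` is the whole group;
* `exists_par` : a proper subgroup of index prime to `p` lies in some `N(V)`, `V ≠ 1` a `p`-subgroup of it.
-/

set_option autoImplicit false
set_option linter.unusedSectionVars false

namespace Cfsg.Agent.H248.TitsRGD

open CoxeterSystem Cfsg.Agent.ChevalleyStructure.CoxeterGeom Cfsg.Agent.Tits.Roots Cfsg.Agent.Tits.Core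
  Cfsg.Agent.Tits.Exchange Cfsg.Agent.Nodes.Reps Cfsg.Agent.Nodes.BNOf Cfsg.Agent.Nodes.StabComb
  Cfsg.Agent.Nodes.Bruhat Cfsg.Agent.Nodes.OppDec Cfsg.Agent.Nodes.LeviDec

variable {I W Y : Type*} [Fintype I] [DecidableEq I] [Group W] [Group Y] {M : CoxeterMatrix I}
  {cs : CoxeterSystem M W} {A : I → I → ℤ} {h : IsCartan M A} {p : ℕ} {T : Subgroup Y} {n : I → Y}
  {X : (I → ℤ) → Subgroup Y}

/-- the simple reflections represented in `P` -/
def JU (T : Subgroup Y) (n : I → Y) (P : Subgroup Y) : Set I := {i | ∃ t ∈ T, t * n i ∈ P}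

variable (R : RGD cs h p T n X)

include R

theorem mem_WJ_of_mem_U [Finite W] {P : Subgroup Y} (hP : RGD.Sup X (RGD.Pos cs h) ≤ P) : ∀ {w : W} {k : Y},
    Rp cs R.nsys w k → k ∈ P → w ∈ WJ cs (JU T n P) := by
  intro w
  induction hn : cs.length w using Nat.strong_induction_on generalizing w with
  | _ N ih =>
  intro k hk hkP
  by_cases hw1 : w = 1
  · rw [hw1]; exact one_mem _
  obtain ⟨i, hi⟩ := cs.exists_leftDescent_of_ne_one hw1
  have hi' : cs.length (cs.simple i * w) < cs.length w := hi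
  -- `w⁻¹ α_i < 0`
  have hneg : rep cs h w⁻¹ (sr i) ≤ 0 := by
    refine nonpos_of_lt cs h w⁻¹ i ?_
    rw [← cs.length_inv w, ← cs.length_inv (cs.simple i * w), mul_inv_rev, inv_simple] at hi'
    exact hi'
  obtain ⟨u, hu, hu1⟩ := exists_ne_one R i
  have h1 : n i * u * (n i)⁻¹ ∈ X (-sr i) := by
    have := R.conj_mem (rp_simple cs R.nsys i) (isRoot_sr cs h i) hu
    rwa [rep_simple_sr] at this
  have h2 : n i * u * (n i)⁻¹ ≠ 1 := fun h3 => hu1 (mul_eq_left.1 (mul_inv_eq_one.1 h3))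
  have h3 : k⁻¹ * (n i * u * (n i)⁻¹) * k ∈ X (-rep cs h w⁻¹ (sr i)) := by
    have := R.conj_mem' hk (isRoot_sr cs h i).neg h1
    rwa [map_neg] at this
  have h4 : k⁻¹ * (n i * u * (n i)⁻¹) * k ∈ P :=
    hP (RGD.le_Sup (S := RGD.Pos cs h) ⟨((isRoot_sr cs h i).act w⁻¹).neg, neg_nonneg.2 hneg⟩ h3)
  have h5 : n i * u * (n i)⁻¹ ∈ P := by
    have e : n i * u * (n i)⁻¹ = k * (k⁻¹ * (n i * u * (n i)⁻¹) * k) * k⁻¹ := by group
    rw [e]
    exact mul_mem (mul_mem hkP h4) (inv_mem hkP)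
  have hXi : X (sr i) ≤ P := le_trans (RGD.le_Sup (S := RGD.Pos cs h) ⟨isRoot_sr cs h i, sr_nonneg i⟩) hP
  obtain ⟨a, ha, t, ht, b, hb, e⟩ := R.rk1 i _ h1 h2
  have h6 : t * n i ∈ P := by
    have h3 : t * n i = a⁻¹ * (n i * u * (n i)⁻¹) * b⁻¹ := by
      conv_rhs => rw [e]
      group
    rw [h3]
    exact mul_mem (mul_mem (inv_mem (hXi ha)) h5) (inv_mem (hXi hb))
  have hk2 : Rp cs R.nsys (cs.simple i * w) ((t * n i)⁻¹ * k) := by
    have := ((rp_of_mem (cs := cs) (hN := R.nsys) ht).mul (rp_simple cs R.nsys i)).inv.mul hk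
    rwa [one_mul, inv_simple] at this
  have h7 := ih (cs.length (cs.simple i * w)) (by omega) rfl hk2 (mul_mem (inv_mem h6) hkP)
  have h8 : w = cs.simple i * (cs.simple i * w) := by rw [← mul_assoc, simple_mul_simple_self, one_mul]
  rw [h8]
  exact mul_mem (simple_mem_WJ cs ⟨t, ht, h6⟩) h7

/-- **Tits' lemma** -/
theorem le_PJ [Finite W] {P : Subgroup Y} (hP : RGD.Sup X (RGD.Pos cs h) ≤ P) (hG : P ≤ GG cs h T X) :
    P ≤ PJ cs h T X (JU T n P) := by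
  intro g hg
  obtain ⟨w, hw⟩ := (mem_GG R).1 (hG hg)
  rw [mem_PJ_iff_cell R]
  refine ⟨w, ?_, hw⟩
  obtain ⟨b₁, hb₁, k, hk, b₂, hb₂, rfl⟩ := hw
  obtain ⟨t₁, ht₁, u₁, hu₁, e₁⟩ := R.mem_B.1 (inv_mem hb₁)
  obtain ⟨t₂, ht₂, u₂, hu₂, e₂⟩ := R.mem_B.1 hb₂
  have hk' : Rp cs R.nsys w (t₁⁻¹ * k * t₂) := by
    have := ((rp_of_mem (cs := cs) (hN := R.nsys) (inv_mem ht₁)).mul hk).mul_mem_right ht₂
    rwa [one_mul] at this
  refine mem_WJ_of_mem_U R hP hk' ?_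
  have e : t₁⁻¹ * k * t₂ = u₁ * (b₁ * k * b₂) * u₂⁻¹ := by
    have hb1 : b₁ = u₁⁻¹ * t₁⁻¹ := by rw [← inv_inv b₁, e₁, mul_inv_rev]
    rw [hb1, e₂]
    group
  rw [e]
  exact mul_mem (mul_mem (hP hu₁) hg) (inv_mem (hP hu₂))

theorem VJ_le {P : Subgroup Y} (hP : RGD.Sup X (RGD.Pos cs h) ≤ P) (J : Set I) : VJ cs h X J ≤ P :=
  le_trans (VJ_le_U J) hP

/-- every element of `W_J` is represented in `P` -/
theorem exists_rp_mem {P : Subgroup Y} {w : W} (hw : w ∈ WJ cs (JU T n P)) :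
    ∃ k ∈ P, Rp cs R.nsys w k := by
  obtain ⟨ω, hω, rfl⟩ := exists_word_of_mem_WJ cs hw
  clear hw
  induction ω with
  | nil => exact ⟨1, one_mem _, by rw [wordProd_nil]; exact rp_one⟩
  | cons i ω ih =>
    obtain ⟨k, hk, hkr⟩ := ih (fun j hj => hω j (by simp [hj]))
    obtain ⟨t, ht, htP⟩ := hω i (by simp)
    refine ⟨t * n i * k, mul_mem htP hk, ?_⟩
    rw [wordProd_cons]
    have := ((rp_of_mem (cs := cs) (hN := R.nsys) ht).mul (rp_simple cs R.nsys i)).mul hkr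
    rwa [one_mul] at this

/-- the root groups of the Levi subgroup lie in `P` -/
theorem X_le [Finite W] {P : Subgroup Y} (hP : RGD.Sup X (RGD.Pos cs h) ≤ P) {x : I → ℤ}
    (hx : x ∈ RootsJ cs h (JU T n P)) : X x ≤ P := by
  obtain ⟨w, hw, i, hi, rfl⟩ := exists_of_mem_RootsJ hx
  obtain ⟨k, hk, hkr⟩ := exists_rp_mem R hw
  rw [← R.conj_rp hkr (isRoot_sr cs h i)]
  intro y hy
  rw [mem_cj] at hy
  have h1 : X (sr i) ≤ P := le_trans (RGD.le_Sup (S := RGD.Pos cs h) ⟨isRoot_sr cs h i, sr_nonneg i⟩) hP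
  have e : y = k * (k⁻¹ * y * k) * k⁻¹ := by group
  rw [e]
  exact mul_mem (mul_mem hk (h1 hy)) (inv_mem hk)

/-- all simple reflections represented: `P` contains all root groups -/
theorem Sup_le_of_univ [Finite W] {P : Subgroup Y} (hP : RGD.Sup X (RGD.Pos cs h) ≤ P)
    (hJ : JU T n P = Set.univ) : RGD.Sup X {x | IsRoot cs h x} ≤ P :=
  RGD.Sup_le fun x hx => X_le R hP (by rw [hJ, RootsJ_univ]; exact hx)

/-- **overgroups of `U`**: a subgroup containing `U` contains all root groups, or normalises a nontrivial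
`p`-subgroup of itself -/
theorem dichotomy [Finite W] {P : Subgroup Y} (hP : RGD.Sup X (RGD.Pos cs h) ≤ P) (hG : P ≤ GG cs h T X) :
    RGD.Sup X {x | IsRoot cs h x} ≤ P ∨
      ∃ V : Subgroup Y, V ≠ ⊥ ∧ IsPGroup p V ∧ V ≤ P ∧ P ≤ Subgroup.normalizer (V : Set Y) := by
  by_cases hJ : JU T n P = Set.univ
  · exact Or.inl (Sup_le_of_univ R hP hJ)
  right
  obtain ⟨i, hi⟩ := (Set.ne_univ_iff_exists_notMem _).1 hJ
  refine ⟨VJ cs h X (JU T n P), ?_, ?_, VJ_le R hP _, le_trans (le_PJ R hP hG) (PJ_le_normalizer_VJ R _)⟩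
  · intro h1
    obtain ⟨u, hu, hu1⟩ := exists_ne_one R i
    have h2 : u ∈ VJ cs h X (JU T n P) := RGD.le_Sup (S := NotJ cs h (JU T n P)) (sr_mem_NotJ hi) hu
    rw [h1, Subgroup.mem_bot] at h2
    exact hu1 h2
  · exact R.isPGroup_of_pos (S := NotJ cs h (JU T n P)) fun _ hx => ⟨hx.1, hx.2.1⟩

end Cfsg.Agent.H248.TitsRGD
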