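import Mathlib
import Cfsg.Agent.KFacts.TwF4.Arc

/-!
# Overgroups of `U ∩ N` in a normal subgroup `N` of a group of type `²F₄` (helper248)

`S : Full σ G`, `N ⊴ G`, `U = J 1 8`. Under the hypotheses `Cond S N` (trivial for `N = G`):
* `overgroup` : `U ∩ N ≤ M ≤ N` implies `M = N`, or `M` normalises `J 2 8`, or `M` normalises `J 1 7`.
-/

set_option autoImplicit false
set_option linter.unusedSectionVars false

namespace Cfsg.Agent.H248.TwF4Over

open Cfsg.Agent.KFacts.TwF4 Cfsg.Agent.KFacts.TwF4.Full Cfsg.Agent.KFacts.TwF4.Arc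
open Cfsg.Agent.SplitTwo Cfsg.Agent.SplitTwo.ZS Cfsg.Agent.TitsThree.RankTwoZ
open Cfsg.Agent.SplitTwo.RootSysZ Subgroup

universe u

/-! ### combinatorics -/

theorem comb_add {P : ZMod (2 * 8) → Prop} (hA : P 9 → P 10 → False) (hB : P 0 → P 15 → False) (c : ZMod (2 * 8))
    (h : ∀ k : ℕ, 1 ≤ k → k ≤ 8 → P (c + (k : ZMod (2 * 8)))) : c = 0 ∨ c = 1 ∨ c = 15 := by
  have e9 : ∀ k : ℕ, 1 ≤ k → k ≤ 7 → c + (k : ZMod (2 * 8)) = 9 → False := by
    intro k h1 h2 h3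
    have a := h k h1 (by omega)
    have b := h (k + 1) (by omega) (by omega)
    rw [h3] at a
    rw [Nat.cast_add, ← add_assoc, h3] at b
    exact hA a b
  have e15 : ∀ k : ℕ, 1 ≤ k → k ≤ 7 → c + (k : ZMod (2 * 8)) = 15 → False := by
    intro k h1 h2 h3
    have a := h k h1 (by omega)
    have b := h (k + 1) (by omega) (by omega)
    rw [h3] at a
    rw [Nat.cast_add, ← add_assoc, h3] at b
    exact hB b a
  obtain ⟨d, hd, rfl⟩ : ∃ d : ℕ, d < 16 ∧ (d : ZMod (2 * 8)) = c :=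
    ⟨c.val, ZMod.val_lt c, ZMod.natCast_zmod_val c⟩
  interval_cases d
  · exact Or.inl rfl
  · exact Or.inr (Or.inl rfl)
  · exact (e9 7 (by norm_num) (by norm_num) rfl).elim
  · exact (e9 6 (by norm_num) (by norm_num) rfl).elim
  · exact (e9 5 (by norm_num) (by norm_num) rfl).elim
  · exact (e9 4 (by norm_num) (by norm_num) rfl).elim
  · exact (e9 3 (by norm_num) (by norm_num) rfl).elim
  · exact (e9 2 (by norm_num) (by norm_num) rfl).elim
  · exact (e9 1 (by norm_num) (by norm_num) rfl).elim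
  · exact (e15 6 (by norm_num) (by norm_num) rfl).elim
  · exact (e15 5 (by norm_num) (by norm_num) rfl).elim
  · exact (e15 4 (by norm_num) (by norm_num) rfl).elim
  · exact (e15 3 (by norm_num) (by norm_num) rfl).elim
  · exact (e15 2 (by norm_num) (by norm_num) rfl).elim
  · exact (e15 1 (by norm_num) (by norm_num) rfl).elim
  · exact Or.inr (Or.inr rfl)

theorem comb_sub {P : ZMod (2 * 8) → Prop} (hA : P 9 → P 10 → False) (hB : P 0 → P 15 → False) (c : ZMod (2 * 8))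
    (h : ∀ k : ℕ, 1 ≤ k → k ≤ 8 → P (c - (k : ZMod (2 * 8)))) : c = 8 ∨ c = 9 ∨ c = 10 := by
  have h' : ∀ k : ℕ, 1 ≤ k → k ≤ 8 → P ((c - 9) + (k : ZMod (2 * 8))) := by
    intro k h1 h2
    have := h (9 - k) (by omega) (by omega)
    rw [Nat.cast_sub (by omega)] at this
    have e : c - 9 + (k : ZMod (2 * 8)) = c - (((9 : ℕ) : ZMod (2 * 8)) - k) := by push_cast; ring
    rwa [e]
  rcases comb_add hA hB (c - 9) h' with h1 | h1 | h1
  · right; left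
    rw [sub_eq_zero.1 h1]
  · right; right
    rw [sub_eq_iff_eq_add.1 h1]; rfl
  · left
    rw [sub_eq_iff_eq_add.1 h1]; rfl

variable {F : Type*} [Field F] {σ : F →+* F} {G : Type u} [Group G] (S : Full σ G)

/-- the conditions on `N` -/
structure Cond (N : Subgroup G) : Prop where
  conj : ∀ g : G, ∀ x ∈ N, g * x * g⁻¹ ∈ N
  n1_mem : ∀ M : Subgroup G, S.XZ 1 ⊓ N ≤ M → S.XZ 9 ⊓ N ≤ M → S.n1 ∈ M
  n2_mem : ∀ M : Subgroup G, S.XZ 8 ⊓ N ≤ M → S.XZ 0 ⊓ N ≤ M → S.n2 ∈ M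
  gen : ∀ M : Subgroup G, (∀ k : ℤ, S.XZ k ⊓ N ≤ M) → N ≤ M
  norm1 : ∀ u ∈ J S.XZ 1 8, ∀ x ∈ (J S.XZ 1 8 ⊓ N) ⊔ (S.XZ 9 ⊓ N), u * x * u⁻¹ ∈ (J S.XZ 1 8 ⊓ N) ⊔ (S.XZ 9 ⊓ N)
  norm2 : ∀ u ∈ J S.XZ 1 8, ∀ x ∈ (J S.XZ 1 8 ⊓ N) ⊔ (S.XZ 0 ⊓ N), u * x * u⁻¹ ∈ (J S.XZ 1 8 ⊓ N) ⊔ (S.XZ 0 ⊓ N)

/-- the root groups of `N` in `M` -/
def Pm (N M : Subgroup G) (i : ZMod (2 * 8)) : Prop := S.R.X i ⊓ N ≤ M

theorem xz_eq (k : ℤ) : S.XZ k = S.R.X (k : ZMod (2 * 8)) := rfl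

theorem X_sq {a : ZMod 8} {x : G} (hx : x ∈ S.R.X (od a)) : x * x = 1 := by
  obtain ⟨t, rfl⟩ := (S.mem_odd a x).1 hx
  have h1 : (S.o a t)⁻¹ = S.o a t := o_inv S a t
  calc S.o a t * S.o a t = S.o a t * (S.o a t)⁻¹ := by rw [h1]
    _ = 1 := mul_inv_cancel _

theorem exists_X_sq (a : ZMod 8) : ∃ x ∈ S.R.X (ev a), x * x ≠ 1 := by
  refine ⟨S.e a 1 0, (S.mem_even a _).2 ⟨1, 0, rfl⟩, ?_⟩
  rw [e_sq S]
  intro h
  have := (S.e_eq_one h).2
  rw [map_one, mul_one] at this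
  exact one_ne_zero this

/-- parity -/
theorem not_maps {m : G} {f : ZMod (2 * 8) → ZMod (2 * 8)} (hm : Maps S.R.X m f) {a b : ZMod 8}
    (h : f (od a) = ev b) : False := by
  obtain ⟨x, hx, hx1⟩ := exists_X_sq S b
  rw [← h] at hx
  have h1 : m⁻¹ * x * m ∈ S.R.X (od a) := by
    rw [← hm]
    have e : m * (m⁻¹ * x * m) * m⁻¹ = x := by group
    rwa [e]
  apply hx1
  have h2 := X_sq S h1
  have e : x * x = m * ((m⁻¹ * x * m) * (m⁻¹ * x * m)) * m⁻¹ := by group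
  rw [e, h2, mul_one, mul_inv_cancel]

variable {S} {N M : Subgroup G}

theorem Pm.conj {i j : ZMod (2 * 8)} (hN : ∀ g : G, ∀ x ∈ N, g * x * g⁻¹ ∈ N) {m : G} (hm : m ∈ M)
    {f : ZMod (2 * 8) → ZMod (2 * 8)} (hf : Maps S.R.X m f) (hi : Pm S N M i) (hj : f i = j) : Pm S N M j := by
  subst hj
  rintro x ⟨hx, hxN⟩
  have h1 : m⁻¹ * x * m ∈ S.R.X i := by
    rw [← hf]
    have e : m * (m⁻¹ * x * m) * m⁻¹ = x := by group
    rwa [e]
  have h2 : m⁻¹ * x * m ∈ N := by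
    have := hN m⁻¹ x hxN
    rwa [inv_inv] at this
  have h3 := hi ⟨h1, h2⟩
  have e : x = m * (m⁻¹ * x * m) * m⁻¹ := by group
  rw [e]
  exact mul_mem (mul_mem hm h3) (inv_mem hm)

theorem maps_refl {c : ℤ} {n : G} (h : Refl S.XZ c n) : Maps S.R.X n (fun k => (c : ZMod (2 * 8)) - k) := by
  intro k x
  have hk : ((k.val : ℤ) : ZMod (2 * 8)) = k := by rw [Int.cast_natCast]; exact ZMod.natCast_zmod_val _
  have h1 := h (k.val : ℤ) x
  rw [xz_eq, xz_eq] at h1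
  rw [Int.cast_sub, hk] at h1
  exact h1.symm

theorem pm_U (hU : J S.XZ 1 8 ⊓ N ≤ M) {k : ℕ} (h1 : 1 ≤ k) (h2 : k ≤ 8) : Pm S N M (k : ZMod (2 * 8)) := by
  have h3 : S.XZ (k : ℤ) ≤ J S.XZ 1 8 := X_le_J (by omega) (by omega)
  have e : S.XZ (k : ℤ) = S.R.X (k : ZMod (2 * 8)) := by rw [xz_eq, Int.cast_natCast]
  intro x hx
  exact hU ⟨h3 (by rw [e]; exact hx.1), hx.2⟩

variable (C : Cond S N)

include C

theorem n1_mem (hU : J S.XZ 1 8 ⊓ N ≤ M) (h9 : Pm S N M 9) : S.n1 ∈ M :=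
  C.n1_mem M (by have := pm_U hU (k := 1) le_rfl (by norm_num); exact_mod_cast this) h9

theorem n2_mem (hU : J S.XZ 1 8 ⊓ N ≤ M) (h0 : Pm S N M 0) : S.n2 ∈ M :=
  C.n2_mem M (by have := pm_U hU (k := 8) (by norm_num) (by norm_num); exact_mod_cast this)
    (by
      have e : S.XZ 0 = S.R.X 0 := by rw [xz_eq, Int.cast_zero]
      rw [e]; exact h0)

theorem pm_refl1 (hU : J S.XZ 1 8 ⊓ N ≤ M) (h9 : Pm S N M 9) {i j : ZMod (2 * 8)} (hi : Pm S N M i)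
    (hj : 10 - i = j) : Pm S N M j :=
  Pm.conj C.conj (n1_mem C hU h9) (maps_refl S.n1_refl) hi (by exact_mod_cast hj)

theorem pm_refl2 (hU : J S.XZ 1 8 ⊓ N ≤ M) (h0 : Pm S N M 0) {i j : ZMod (2 * 8)} (hi : Pm S N M i)
    (hj : 8 - i = j) : Pm S N M j :=
  Pm.conj C.conj (n2_mem C hU h0) (maps_refl S.n2_refl) hi (by exact_mod_cast hj)

theorem le_of_both (hU : J S.XZ 1 8 ⊓ N ≤ M) (h9 : Pm S N M 9) (h0 : Pm S N M 0) : N ≤ M := by
  have step : ∀ i, Pm S N M i → Pm S N M (i + 2) := by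
    intro i hi
    have h1 := pm_refl2 C hU h0 hi rfl
    have h2 := pm_refl1 C hU h9 h1 rfl
    have e : (10 : ZMod (2 * 8)) - (8 - i) = i + 2 := by
      have : (10 : ZMod (2 * 8)) = 8 + 2 := by decide
      rw [this]; ring
    rwa [e] at h2
  have hn : ∀ (n : ℕ) (i : ZMod (2 * 8)), Pm S N M i → Pm S N M (i + 2 * n) := by
    intro n
    induction n with
    | zero => intro i hi; simpa using hi
    | succ n ih =>
      intro i hi
      have := step _ (ih i hi)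
      have e : i + 2 * ((n + 1 : ℕ) : ZMod (2 * 8)) = i + 2 * (n : ZMod (2 * 8)) + 2 := by push_cast; ring
      rw [e]
      exact this
  have h1 : Pm S N M 1 := by have := pm_U hU (k := 1) le_rfl (by norm_num); exact_mod_cast this
  refine C.gen M fun k => ?_
  rw [xz_eq]
  have hk : (k : ZMod (2 * 8)) = ((k : ZMod (2 * 8)).val : ZMod (2 * 8)) := (ZMod.natCast_zmod_val _).symm
  obtain ⟨d, hd | hd⟩ := Nat.even_or_odd' (k : ZMod (2 * 8)).val
  · have := hn d 0 h0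
    rw [zero_add] at this
    rw [hk, hd]
    push_cast
    exact this
  · have := hn d 1 h1
    rw [hk, hd]
    push_cast
    rwa [add_comm] at this

/-- `U` normalises `U ∩ N` -/
theorem conj_UN {u x : G} (hu : u ∈ J S.XZ 1 8) (hx : x ∈ J S.XZ 1 8 ⊓ N) : u * x * u⁻¹ ∈ J S.XZ 1 8 ⊓ N :=
  mem_inf.2 ⟨(J S.XZ 1 8).mul_mem ((J S.XZ 1 8).mul_mem hu hx.1) ((J S.XZ 1 8).inv_mem hu), C.conj u x hx.2⟩

/-- the types of the elements -/
theorem types (hU : J S.XZ 1 8 ⊓ N ≤ M) {b b' n : G} (hb : b ∈ J S.XZ 1 8) (hb' : b' ∈ J S.XZ 1 8)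
    (hn : ∃ c : ZMod (2 * 8), Maps S.R.X n (fun k => c + k) ∨ Maps S.R.X n (fun k => c - k))
    (hg : b * n * b' ∈ M) : N ≤ M ∨ Maps S.R.X n (fun k => k) ∨
      (Maps S.R.X n (fun k => 10 - k) ∧ Pm S N M 9) ∨ (Maps S.R.X n (fun k => 8 - k) ∧ Pm S N M 0) := by
  -- `M' = b⁻¹ M b`
  set M' : Subgroup G := M.comap (MulAut.conj b).toMonoidHom with hM'
  have mM' : ∀ x, x ∈ M' ↔ b * x * b⁻¹ ∈ M := fun x => Iff.rfl
  have hU' : J S.XZ 1 8 ⊓ N ≤ M' := fun x hx => (mM' x).2 (hU (conj_UN C hb hx))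
  have hNM : N ≤ M' → N ≤ M := by
    intro h x hx
    have h1 := h (C.conj b⁻¹ x hx)
    rw [mM', inv_inv] at h1
    have e : b * (b⁻¹ * x * b) * b⁻¹ = x := by group
    rwa [e] at h1
  -- `n X_k n⁻¹ ≤ M'`
  have hk : ∀ (k : ℕ) (f : ZMod (2 * 8) → ZMod (2 * 8)), 1 ≤ k → k ≤ 8 → Maps S.R.X n f → Pm S N M' (f k) := by
    intro k f h1 h2 hf x hx
    have h3 : n⁻¹ * x * n ∈ S.R.X (k : ZMod (2 * 8)) := by
      rw [← hf]
      have e : n * (n⁻¹ * x * n) * n⁻¹ = x := by group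
      rw [e]
      exact hx.1
    have h4 : n⁻¹ * x * n ∈ N := by
      have := C.conj n⁻¹ x hx.2
      rwa [inv_inv] at this
    have h5 : n⁻¹ * x * n ∈ J S.XZ 1 8 := by
      refine X_le_J (X := S.XZ) (k := (k : ℤ)) (by omega) (by omega) ?_
      rw [xz_eq, Int.cast_natCast]
      exact h3
    have h51 : n⁻¹ * x * n ∈ J S.XZ 1 8 ⊓ N := ⟨h5, h4⟩
    have h6 : b'⁻¹ * (n⁻¹ * x * n) * b'⁻¹⁻¹ ∈ J S.XZ 1 8 ⊓ N := conj_UN C (inv_mem hb') h51
    rw [mM']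
    have h7 := mul_mem (mul_mem hg (hU h6)) (inv_mem hg)
    have e : b * n * b' * (b'⁻¹ * (n⁻¹ * x * n) * b'⁻¹⁻¹) * (b * n * b')⁻¹ = b * x * b⁻¹ := by group
    rwa [e] at h7
  by_cases hboth : Pm S N M' 9 ∧ Pm S N M' 0
  · exact Or.inl (hNM (le_of_both C hU' hboth.1 hboth.2))
  have hA : Pm S N M' 9 → Pm S N M' 10 → False := fun h9 h10 =>
    hboth ⟨h9, pm_refl1 C hU' h9 h10 (by decide)⟩
  have hB : Pm S N M' 0 → Pm S N M' 15 → False := fun h0 h15 =>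
    hboth ⟨pm_refl2 C hU' h0 h15 (by decide), h0⟩
  right
  obtain ⟨c, hc | hc⟩ := hn
  · left
    rcases comb_add hA hB c (fun k h1 h2 => hk k _ h1 h2 hc) with rfl | rfl | rfl
    · have e : (fun k : ZMod (2 * 8) => 0 + k) = fun k => k := by funext k; rw [zero_add]
      rwa [e] at hc
    · exact (not_maps S hc (a := 0) (b := 1) (by decide)).elim
    · exact (not_maps S hc (a := 0) (b := 0) (by decide)).elim
  · right
    rcases comb_sub hA hB c (fun k h1 h2 => hk k _ h1 h2 hc) with rfl | rfl | rfl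
    · right
      refine ⟨hc, ?_⟩
      have h0 : Pm S N M' 0 := by
        have := hk 8 _ (by norm_num) le_rfl hc
        have e : (8 : ZMod (2 * 8)) - ((8 : ℕ) : ZMod (2 * 8)) = 0 := by decide
        rwa [e] at this
      have h1 : (J S.XZ 1 8 ⊓ N) ⊔ (S.XZ 0 ⊓ N) ≤ M' := by
        refine sup_le hU' ?_
        have e : S.XZ 0 = S.R.X 0 := by rw [xz_eq, Int.cast_zero]
        rw [e]
        exact h0
      intro x hx
      have e : S.XZ 0 = S.R.X 0 := by rw [xz_eq, Int.cast_zero]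
      have h2 := C.norm2 b⁻¹ (inv_mem hb) x ((le_sup_right : S.XZ 0 ⊓ N ≤ _) (by rw [e]; exact hx))
      have h3 := h1 h2
      rw [mM', inv_inv] at h3
      have e2 : b * (b⁻¹ * x * b) * b⁻¹ = x := by group
      rwa [e2] at h3
    · exact (not_maps S hc (a := 0) (b := 4) (by decide)).elim
    · left
      refine ⟨hc, ?_⟩
      have h0 : Pm S N M' 9 := by
        have := hk 1 _ le_rfl (by norm_num) hc
        have e : (10 : ZMod (2 * 8)) - ((1 : ℕ) : ZMod (2 * 8)) = 9 := by decide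
        rwa [e] at this
      have h1 : (J S.XZ 1 8 ⊓ N) ⊔ (S.XZ 9 ⊓ N) ≤ M' := sup_le hU' h0
      intro x hx
      have h2 := C.norm1 b⁻¹ (inv_mem hb) x ((le_sup_right : S.XZ 9 ⊓ N ≤ _) hx)
      have h3 := h1 h2
      rw [mM', inv_inv] at h3
      have e2 : b * (b⁻¹ * x * b) * b⁻¹ = x := by group
      rwa [e2] at h3

/-- maps `J a b` to itself -/
theorem conj_J_of_maps {n : G} {a b : ℤ} (h : (Maps S.R.X n (fun k => k)) ∨
    Maps S.R.X n (fun k => ((a + b : ℤ) : ZMod (2 * 8)) - k)) {x : G} (hx : x ∈ J S.XZ a b) :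
    n * x * n⁻¹ ∈ J S.XZ a b := by
  have h1 : J S.XZ a b ≤ (J S.XZ a b).comap (MulAut.conj n).toMonoidHom := by
    refine J_le fun k h1 h2 y hy => ?_
    show n * y * n⁻¹ ∈ J S.XZ a b
    rcases h with h | h
    · refine X_le_J (X := S.XZ) (k := k) h1 h2 ?_
      rw [xz_eq]
      exact (h _ _).2 hy
    · refine X_le_J (X := S.XZ) (k := a + b - k) (by omega) (by omega) ?_
      rw [xz_eq, Int.cast_sub]
      exact (h _ _).2 hy
  exact h1 hx

theorem mem_normalizer_J [Finite G] {g : G} {a b : ℤ} (h : ∀ x ∈ J S.XZ a b, g * x * g⁻¹ ∈ J S.XZ a b) :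
    g ∈ normalizer (J S.XZ a b : Set G) := by
  rw [mem_normalizer_iff]
  intro x
  refine ⟨h x, fun hx => ?_⟩
  have hinj : Function.Injective (fun y : ↥(J S.XZ a b) => (⟨g * y * g⁻¹, h y y.2⟩ : ↥(J S.XZ a b))) := by
    intro y z hyz
    have h1 := congrArg Subtype.val hyz
    apply Subtype.ext
    simpa using h1
  obtain ⟨y, hy⟩ := Finite.surjective_of_injective hinj ⟨g * x * g⁻¹, hx⟩
  have h1 : g * (y : G) * g⁻¹ = g * x * g⁻¹ := congrArg Subtype.val hy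
  have h2 : (y : G) = x := by simpa using h1
  rw [← h2]
  exact y.2

theorem torus_mul_maps {t w : G} (ht : t ∈ S.T) (hw : S.IsDih w) :
    ∃ c : ZMod (2 * 8), Maps S.R.X (t * w) (fun k => c + k) ∨ Maps S.R.X (t * w) (fun k => c - k) := by
  obtain ⟨c, hc⟩ := hw
  refine ⟨c, ?_⟩
  have key : ∀ f : ZMod (2 * 8) → ZMod (2 * 8), Maps S.R.X w f → Maps S.R.X (t * w) f := by
    intro f hf k x
    have e : t * w * x * (t * w)⁻¹ = t * (w * x * w⁻¹) * t⁻¹ := by group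
    rw [e]
    exact (ht _ _).trans (hf _ _)
  rcases hc with hc | hc
  · exact Or.inl (key _ hc)
  · exact Or.inr (key _ hc)

/-- **overgroups of `U ∩ N` in `N`** -/
theorem overgroup [Finite G] (hU : J S.XZ 1 8 ⊓ N ≤ M) : N ≤ M ∨ M ≤ normalizer (J S.XZ 2 8 : Set G) ∨
    M ≤ normalizer (J S.XZ 1 7 : Set G) := by
  by_cases hNM : N ≤ M
  · exact Or.inl hNM
  right
  have Z := S.zsys8
  have hb1 : ∀ b ∈ J S.XZ 1 8, ∀ x ∈ J S.XZ 2 8, b * x * b⁻¹ ∈ J S.XZ 2 8 := fun b hb x hx =>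
    Z.conj_J (a := 2) (b := 8) (c := 1) (d := 8) (by norm_num) (by norm_num) (by norm_num) hb hx
  have hb2 : ∀ b ∈ J S.XZ 1 8, ∀ x ∈ J S.XZ 1 7, b * x * b⁻¹ ∈ J S.XZ 1 7 := fun b hb x hx =>
    Z.conj_J (a := 1) (b := 7) (c := 1) (d := 8) (by norm_num) (by norm_num) (by norm_num) hb hx
  by_cases h0 : Pm S N M 0
  · -- no elements of type `10 - k`
    have h9 : ¬ Pm S N M 9 := fun h9 => hNM (le_of_both C hU h9 h0)
    right
    intro g hg
    obtain ⟨b, hb, t, ht, w, hw, b', hb', rfl⟩ := S.bruhat g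
    have hg' : b * (t * w) * b' ∈ M := by rwa [← mul_assoc]
    refine mem_normalizer_J C fun x hx => ?_
    have key : ∀ y ∈ J S.XZ 1 7, (t * w) * y * (t * w)⁻¹ ∈ J S.XZ 1 7 := by
      intro y hy
      rcases types C hU hb hb' (torus_mul_maps C ht hw) hg' with h | h | ⟨-, h⟩ | ⟨h, -⟩
      · exact absurd h hNM
      · exact conj_J_of_maps C (Or.inl h) hy
      · exact absurd h h9
      · exact conj_J_of_maps C (Or.inr (by exact_mod_cast h)) hy
    have h1 := hb2 b hb _ (key _ (hb2 b' hb' x hx))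
    have e : b * (t * w * (b' * x * b'⁻¹) * (t * w)⁻¹) * b⁻¹ = b * t * w * b' * x * (b * t * w * b')⁻¹ := by group
    rwa [e] at h1
  · left
    intro g hg
    obtain ⟨b, hb, t, ht, w, hw, b', hb', rfl⟩ := S.bruhat g
    have hg' : b * (t * w) * b' ∈ M := by rwa [← mul_assoc]
    refine mem_normalizer_J C fun x hx => ?_
    have key : ∀ y ∈ J S.XZ 2 8, (t * w) * y * (t * w)⁻¹ ∈ J S.XZ 2 8 := by
      intro y hy
      rcases types C hU hb hb' (torus_mul_maps C ht hw) hg' with h | h | ⟨h, -⟩ | ⟨-, h⟩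
      · exact absurd h hNM
      · exact conj_J_of_maps C (Or.inl h) hy
      · exact conj_J_of_maps C (Or.inr (by exact_mod_cast h)) hy
      · exact absurd h h0
    have h1 := hb1 b hb _ (key _ (hb1 b' hb' x hx))
    have e : b * (t * w * (b' * x * b'⁻¹) * (t * w)⁻¹) * b⁻¹ = b * t * w * b' * x * (b * t * w * b')⁻¹ := by group
    rwa [e] at h1

end Cfsg.Agent.H248.TwF4Over
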