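import Mathlib
import Cfsg.Agent.H248.Dich
import Cfsg.Agent.H248.TwF4Over
import Cfsg.Agent.KFacts.TwF4.SylU
import Cfsg.Agent.KFacts.TwF4.Full

/-!
# `Dich 2 G` for `²F₄(q)`, `q ≥ 8` (helper248)
-/

set_option autoImplicit false
set_option linter.unusedSectionVars false

namespace Cfsg.Agent.H248.TwF4Over

open Cfsg.Agent.KFacts.TwF4 Cfsg.Agent.KFacts.TwF4.Full Cfsg.Agent.KFacts.TwF4.Arc
open Cfsg.Agent.KFacts.TwF4.Inv Cfsg.Agent.KFacts.TwF4.SylU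
open Cfsg.Agent.SplitTwo Cfsg.Agent.SplitTwo.ZS Cfsg.Agent.TitsThree.RankTwoZ
open Cfsg.Agent.SplitTwo.RootSysZ Subgroup Cfsg Cfsg.Lie Cfsg.Agent.H248.Ovg

universe u

variable {F : Type*} [Field F] {σ : F →+* F} {G : Type u} [Group G] (S : Full σ G)

theorem cond_top : Cond S ⊤ where
  conj := fun _ _ _ => mem_top _
  n1_mem := by
    intro M h1 h9
    rw [inf_top_eq] at h1 h9
    rw [S.n1_word]
    have a := h1 ((mem_X1 S).2 ⟨1, rfl⟩)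
    exact mul_mem (mul_mem a (h9 ((mem_X9 S).2 ⟨1, rfl⟩))) a
  n2_mem := by
    intro M h8 h0
    rw [inf_top_eq] at h8 h0
    rw [S.n2_word]
    exact mul_mem (mul_mem (h8 ((mem_X8 S).2 ⟨0, 1, rfl⟩)) (h0 ((mem_X0 S).2 ⟨1, 1, rfl⟩)))
      (h8 ((mem_X8 S).2 ⟨1, 0, rfl⟩))
  gen := by
    intro M h
    rw [← S.R.gen]
    refine iSup_le fun i => ?_
    have h1 := h (i.val : ℤ)
    rw [inf_top_eq, xz_eq, Int.cast_natCast, ZMod.natCast_zmod_val] at h1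
    exact h1
  norm1 := by
    intro u hu x hx
    have h1 : u ∈ (J S.XZ 1 8 ⊓ ⊤) ⊔ (S.XZ 9 ⊓ ⊤) := le_sup_left (a := J S.XZ 1 8 ⊓ ⊤) ⟨hu, mem_top _⟩
    exact mul_mem (mul_mem h1 hx) (inv_mem h1)
  norm2 := by
    intro u hu x hx
    have h1 : u ∈ (J S.XZ 1 8 ⊓ ⊤) ⊔ (S.XZ 0 ⊓ ⊤) := le_sup_left (a := J S.XZ 1 8 ⊓ ⊤) ⟨hu, mem_top _⟩
    exact mul_mem (mul_mem h1 hx) (inv_mem h1)

theorem J_ne_bot {a b : ℤ} (h : a ≤ b) : J S.XZ a b ≠ ⊥ := fun h1 =>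
  S.zsys8.ne_bot a (eq_bot_iff.2 (h1 ▸ X_le_J le_rfl h))

theorem dich_full [Finite F] [Finite G] (hF : ∃ c : Fˣ, c ≠ 1) (hR : S.R.p = 2) : Dich 2 G := by
  have : Fact (Nat.Prime 2) := ⟨Nat.prime_two⟩
  obtain ⟨P, hP⟩ := exists_sylow S hF hR
  have hU2 : IsPGroup 2 (J S.XZ 1 8) := isPGroup_J S.zsys8 (two_X S hR) 8 1 8 (by norm_num) (by norm_num)
  refine ⟨J S.XZ 1 8, hU2, ?_, fun M hM => ?_⟩
  · rw [← hP]
    exact P.not_dvd_index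
  · have hM' : J S.XZ 1 8 ⊓ ⊤ ≤ M := by rwa [inf_top_eq]
    rcases overgroup (cond_top S) hM' with h | h | h
    · exact Or.inl (top_le_iff.1 h)
    · exact Or.inr ⟨J S.XZ 2 8, J_ne_bot S (by norm_num), hU2.to_le (J_mono (by norm_num) (by norm_num)),
        le_trans (J_mono (by norm_num) (by norm_num)) hM, h⟩
    · exact Or.inr ⟨J S.XZ 1 7, J_ne_bot S (by norm_num), hU2.to_le (J_mono (by norm_num) (by norm_num)),
        le_trans (J_mono (by norm_num) (by norm_num)) hM, h⟩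

theorem dich_2F4 {X : Type*} [Group X] [Finite X] (h : Iso2F4 X) : Dich 2 X := by
  obtain ⟨F, _, _, m, hm, hK, ⟨e⟩⟩ := h
  obtain ⟨φ, hφ⟩ := Cfsg.Agent.ChevalleyStructure.TwF4.TwistedFix.exists_rln hK
  have := Cfsg.Agent.ChevalleyStructure.TwF4.Twisted.charP_two hK
  have hfin : Finite ↥(twistedF4 F (2 ^ m)) := inferInstance
  have hfact : Fact (Nat.Prime 2) := ⟨Nat.prime_two⟩
  have hF : ∃ c : Fˣ, c ≠ 1 := by
    have h1 : 1 < Nat.card Fˣ := by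
      rw [Nat.card_units, Nat.card_eq_fintype_card, hK]
      have : 2 ^ 3 ≤ 2 ^ (2 * m + 1) := Nat.pow_le_pow_right (by norm_num) (by omega)
      omega
    have h2 : Nontrivial Fˣ := Finite.one_lt_card_iff_nontrivial.1 h1
    exact exists_ne 1
  obtain ⟨S, hS⟩ : ∃ S : Full φ ↥(twistedF4 F (2 ^ m)), S.R.p = 2 :=
    ⟨Cfsg.Agent.KFacts.TwF4.Inst.full hK hφ, rfl⟩
  exact (dich_full S hF hS).of_equiv e.symm

end Cfsg.Agent.H248.TwF4Over
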