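import Mathlib
import Cfsg.Agent.H248.RankOne
import Cfsg.Agent.SuzukiRankOne.SzModel
import Cfsg.Agent.S1162
import Cfsg.Agent.S1073
import Cfsg.Agent.LieRecognition.ReeSplit
import Cfsg.Agent.ChevalleyStructure.Ree.Data

/-!
# `Dich p G` for `Sz(q)` and `²G₂(q)` (helper248)
-/

set_option autoImplicit false

namespace Cfsg.Agent.H248.Ovg

open Subgroup Cfsg

theorem dich_sz {G : Type*} [Group G] [Finite G] (h : Lie.IsoSuzuki G) : Dich 2 G := by
  obtain ⟨F, iF, iFin, m, hm, hF, ⟨e⟩⟩ := h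
  have : Fact (Nat.Prime 2) := ⟨Nat.prime_two⟩
  have hfin : Finite ↥(Lie.Sz F (2 ^ (m + 1))) := Finite.of_equiv _ e.toEquiv
  have hs : IsSimpleGroup ↥(Cfsg.Lie.Sz F (2 ^ (m + 1))) := Cfsg.Agent.S1162.result hm hF
  have H := Cfsg.Agent.LieRecognition.SzMatrix.good hF
  have hS : IsPGroup 2 H.unip := by
    refine IsPGroup.of_card (n := (2 * m + 1) * 2) ?_
    rw [H.card_unip, Nat.card_eq_fintype_card, hF, ← pow_mul]
  exact (dich_of_setup (Cfsg.Agent.SuzukiRankOne.SzModel.setup H) hS).of_equiv e.symm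

open Cfsg.Agent.LieRecognition Cfsg.Agent.LieRecognition.ReeAbs Cfsg.Agent.LieRecognition.ReeSylowThree
  Cfsg.Agent.LieRecognition.ReeSplit in
theorem dich_ree_data {K G : Type*} [Field K] [Fintype K] [Group G] [Finite G] [IsSimpleGroup G] {m : ℕ}
    {U : K → K → K → G} {h : Kˣ → G} {n : G} (D : Data m U h n) (hK : Fintype.card K = 3 ^ (2 * m + 1)) : Dich 3 G := by
  have : Fact (Nat.Prime 3) := ⟨Nat.prime_three⟩
  have hcardU : Nat.card (uSub D) = 3 ^ ((2 * m + 1) * 3) := by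
    rw [card_uSub, hK, ← pow_mul]
  have hU : IsPGroup 3 (uSub D) := IsPGroup.of_card hcardU
  have hU1 : U 0 0 1 ≠ 1 := by
    intro h1
    rw [← D.U_zero] at h1
    exact one_ne_zero (U_injective D h1).2.2
  refine dich_of_rankOne (U := uSub D) (B := bSub D) (n := n) hU ?_ (uSub_le_bSub D) ?_ ?_ ?_ ?_
  · intro h1
    have h2 : U 0 0 1 ∈ uSub D := ⟨0, 0, 1, rfl⟩
    rw [h1, mem_bot] at h2
    exact hU1 h2
  · intro g hg
    rw [mem_normalizer_iff]
    intro x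
    refine ⟨fun hx => conj_mem_uSub D hg hx, fun hx => ?_⟩
    have h1 := inv_conj_mem_uSub D hg hx
    have e : g⁻¹ * (g * x * g⁻¹) * g = x := by group
    rwa [e] at h1
  · have h1 : Nat.card (uSub D) * (uSub D).relIndex (bSub D) = Nat.card (bSub D) := by
      have := Subgroup.relIndex_mul_relIndex ⊥ (uSub D) (bSub D) bot_le (uSub_le_bSub D)
      rwa [relIndex_bot_left, relIndex_bot_left] at this
    rw [card_uSub, card_bSub] at h1
    have h0 : 0 < Fintype.card K ^ 3 := pow_pos Fintype.card_pos 3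
    have h2 : (uSub D).relIndex (bSub D) = Fintype.card K - 1 := Nat.eq_of_mul_eq_mul_left h0 h1
    rw [h2, hK]
    have h3 : 3 ∣ 3 ^ (2 * m + 1) := dvd_pow_self 3 (by omega)
    have h4 : 0 < 3 ^ (2 * m + 1) := by positivity
    omega
  · refine ⟨U 0 0 1, ⟨0, 0, 1, rfl⟩, ?_⟩
    rintro ⟨t, u, v, a, he⟩
    -- `n⁻¹ U n = b`, so `U n = n b`
    have h1 : U 0 0 1 * h 1 * n * U 0 0 0 = n * (U t u v * h a) := by
      rw [D.h_one, mul_one, D.U_zero, mul_one, ← he]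
      group
    have h2 : n * (U t u v * h a) = U 0 0 0 * h 1 * n * (U t u v * h a) := by
      rw [D.h_one, D.U_zero, mul_one, one_mul]
    rw [h2] at h1
    have h3 : U t u v * h a = h a * (h a⁻¹ * U t u v * h a) := by
      rw [← mul_assoc, ← mul_assoc, ← D.h_mul, mul_inv_cancel, D.h_one, one_mul]
    obtain ⟨t', u', v', h4⟩ : ∃ t' u' v', h a⁻¹ * U t u v * h a = U t' u' v' := by
      have := h_conj_mem D a⁻¹ (x := U t u v) ⟨t, u, v, rfl⟩
      rw [D.h_inv, inv_inv] at this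
      rw [D.h_inv]
      exact this
    rw [h3, h4, ← mul_assoc, mul_assoc (U 0 0 0 * h 1) n (h a), D.n_h, ← mul_assoc, mul_assoc (U 0 0 0) (h 1) _,
      ← D.h_mul] at h1
    have h5 := (D.inj₂ _ _ _ _ _ _ _ _ _ _ _ _ _ _ h1).2.2.1
    exact one_ne_zero h5
  · intro g
    rcases D.bruhat g with hb | ⟨t, u, v, a, t', u', v', rfl⟩
    · exact Or.inl hb
    right
    refine ⟨U t u v, ⟨t, u, v, rfl⟩, h a⁻¹ * U t' u' v', mul_mem (h_mem_bSub D _) (uSub_le_bSub D ⟨_, _, _, rfl⟩), ?_⟩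
    rw [← mul_assoc, mul_assoc (U t u v) n, D.n_h, inv_inv, ← mul_assoc]

theorem dich_ree {G : Type*} [Group G] [Finite G] (h : Lie.IsoRee G) : Dich 3 G := by
  obtain ⟨K, iK, iFin, m, hm, hK, ⟨e⟩⟩ := h
  have : Fact (Nat.Prime 3) := ⟨Nat.prime_three⟩
  have hfin : Finite ↥(Lie.twistedG2 K (3 ^ m)) := Finite.of_equiv _ e.toEquiv
  have hs : IsSimpleGroup ↥(Lie.twistedG2 K (3 ^ m)) := (Cfsg.Agent.S1073.result hm hK).1
  obtain ⟨U, h, n, D⟩ := ChevalleyStructure.Ree.Data.exists_data (K := K) hK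
  exact (dich_ree_data D hK).of_equiv e.symm

end Cfsg.Agent.H248.Ovg
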