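import Mathlib

/-!
# Eigenvalues modulo `p` of integral matrices of finite order (helper248)

* `trace_pow_coprime` : `B ^ m = 1`, `j` prime to `m`: `tr (B ^ j) = tr B` (`B` an integral matrix);
* `finrank_eq` : the eigenspaces of `q` and `q ^ j` modulo `p` have the same dimension (`p ∤ m`, `p > l`);
* `two_totient_le` : if the eigenspace of `q` modulo `p` has dimension at least two then `2 φ(e) ≤ l`, `e` the order of `q` modulo
  `p`;
* `mem_of_totient_le_three`, `mem_of_totient_le_five`.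
-/

set_option autoImplicit false
set_option linter.unusedSectionVars false

namespace Cfsg.Agent.H248.LatEig

open Matrix Module

section Trace

variable {l : ℕ}

theorem trace_pow_prime (B : Matrix (Fin l) (Fin l) ℤ) {s : ℕ} (hs : s.Prime) : (s : ℤ) ∣ trace (B ^ s) - trace B := by
  have : Fact s.Prime := ⟨hs⟩
  have h1 := ZMod.trace_pow_card (B.map (Int.castRingHom (ZMod s)))
  rw [ZMod.pow_card] at h1
  have h2 : (B ^ s).map (Int.castRingHom (ZMod s)) = (B.map (Int.castRingHom (ZMod s))) ^ s := by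
    exact map_pow (RingHom.mapMatrix (Int.castRingHom (ZMod s))) B s
  rw [← h2, ← AddMonoidHom.map_trace, ← AddMonoidHom.map_trace] at h1
  rw [← Int.modEq_iff_dvd]
  have h3 : ((trace B : ℤ) : ZMod s) = ((trace (B ^ s) : ℤ) : ZMod s) := h1.symm
  exact (ZMod.intCast_eq_intCast_iff _ _ _).1 h3

theorem trace_pow_coprime (B : Matrix (Fin l) (Fin l) ℤ) {m : ℕ} (hm : m ≠ 0) (hB : B ^ m = 1) {j : ℕ}
    (hj : j.Coprime m) : trace (B ^ j) = trace B := by
  have : NeZero m := ⟨hm⟩
  obtain ⟨s, hs1, hs2, hs3⟩ := Nat.forall_exists_prime_gt_and_eq_mod ((ZMod.isUnit_iff_coprime j m).2 hj)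
    (trace (B ^ j) - trace B).natAbs
  have h1 : B ^ s = B ^ j := by
    have h2 : s % m = j % m := (ZMod.natCast_eq_natCast_iff' _ _ _).1 hs3
    rw [pow_eq_pow_mod s hB, pow_eq_pow_mod j hB, h2]
  have h2 := trace_pow_prime B hs2
  rw [h1] at h2
  by_contra h3
  have h4 := Int.natAbs_le_of_dvd_ne_zero h2 (sub_ne_zero.2 h3)
  rw [Int.natAbs_natCast] at h4
  omega

end Trace

section Eig

variable {l p m : ℕ} [hp : Fact p.Prime] [NeZero m]

/-- the power with exponent in `ZMod m` -/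
def pw {R : Type*} [Monoid R] (x : R) (k : ZMod m) : R := x ^ k.val

theorem pw_def {R : Type*} [Monoid R] (x : R) (k : ZMod m) : pw x k = x ^ k.val := rfl

theorem pw_add {R : Type*} [Monoid R] {x : R} (hx : x ^ m = 1) (a b : ZMod m) : pw x (a + b) = pw x a * pw x b := by
  rw [pw_def, pw_def, pw_def, ZMod.val_add, ← pow_eq_pow_mod _ hx, pow_add]

theorem pw_mul {R : Type*} [Monoid R] {x : R} (hx : x ^ m = 1) (a b : ZMod m) : pw x (a * b) = (pw x a) ^ b.val := by
  rw [pw_def, pw_def, ZMod.val_mul, ← pow_eq_pow_mod _ hx, pow_mul]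

theorem pw_natCast {R : Type*} [Monoid R] {x : R} (hx : x ^ m = 1) (n : ℕ) : pw x (n : ZMod m) = x ^ n := by
  rw [pw_def, ZMod.val_natCast, ← pow_eq_pow_mod _ hx]

theorem pw_zero {R : Type*} [Monoid R] (x : R) : pw x (0 : ZMod m) = 1 := by
  rw [pw_def, ZMod.val_zero, pow_zero]

variable (m) in
/-- the projection onto the eigenspace of `μ` -/
noncomputable def proj (A : End (ZMod p) (Fin l → ZMod p)) (μ : ZMod p) : End (ZMod p) (Fin l → ZMod p) :=
  ((m : ZMod p)⁻¹) • ∑ k : ZMod m, pw μ (-k) • pw A k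

theorem isProj {A : End (ZMod p) (Fin l → ZMod p)} (hA : A ^ m = 1) {μ : ZMod p} (hμ : μ ^ m = 1) (hpm : ¬ p ∣ m) :
    LinearMap.IsProj (A.eigenspace μ) (proj m A μ) := by
  have hm0 : (m : ZMod p) ≠ 0 := by rwa [Ne, ZMod.natCast_eq_zero_iff]
  constructor
  · intro x
    rw [Module.End.mem_eigenspace_iff]
    have h1 : A * (∑ k : ZMod m, pw μ (-k) • pw A k) = μ • ∑ k : ZMod m, pw μ (-k) • pw A k := by
      rw [Finset.mul_sum, Finset.smul_sum]
      refine Fintype.sum_equiv (Equiv.addRight (1 : ZMod m)) _ _ (fun k => ?_)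
      rw [Equiv.coe_addRight, mul_smul_comm, smul_smul]
      have h2 : pw A (k + 1) = A * pw A k := by
        rw [add_comm, pw_add hA]
        congr 1
        have := pw_natCast (m := m) hA 1
        rwa [Nat.cast_one, pow_one] at this
      have h3 : μ * pw μ (-(k + 1)) = pw μ (-k) := by
        have h4 : pw μ (1 : ZMod m) = μ := by
          have := pw_natCast (m := m) hμ 1
          rwa [Nat.cast_one, pow_one] at this
        have h5 : pw μ (-k) = pw μ (1 + -(k + 1)) := by congr 1; ring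
        rw [h5, pw_add hμ, h4]
      rw [h2, h3]
    have h2 := congrArg (fun f : End (ZMod p) (Fin l → ZMod p) => f x) h1
    change A ((∑ k : ZMod m, pw μ (-k) • pw A k) x) = μ • ((∑ k : ZMod m, pw μ (-k) • pw A k) x) at h2
    rw [proj, LinearMap.smul_apply, map_smul, h2, smul_comm]
  · intro x hx
    rw [Module.End.mem_eigenspace_iff] at hx
    have h1 : ∀ n : ℕ, (A ^ n) x = μ ^ n • x := by
      intro n
      induction n with
      | zero => rw [pow_zero, pow_zero, one_smul]; rfl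
      | succ n ih => rw [pow_succ', Module.End.mul_apply, ih, map_smul, hx, smul_smul, pow_succ]
    rw [proj, LinearMap.smul_apply, LinearMap.sum_apply]
    have h2 : ∀ k : ZMod m, (pw μ (-k) • pw A k) x = x := by
      intro k
      rw [LinearMap.smul_apply, pw_def A, h1, smul_smul, ← pw_def, ← pw_add hμ, neg_add_cancel, pw_zero, one_smul]
    rw [Finset.sum_congr rfl (fun k _ => h2 k), Finset.sum_const, Finset.card_univ, ZMod.card, ← Nat.cast_smul_eq_nsmul (ZMod p),
      smul_smul, inv_mul_cancel₀ hm0, one_smul]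

/-- reduction modulo `p` -/
noncomputable def red (p : ℕ) {l : ℕ} (B : Matrix (Fin l) (Fin l) ℤ) : End (ZMod p) (Fin l → ZMod p) :=
  Matrix.toLin' (B.map (Int.castRingHom (ZMod p)))

theorem red_pow (B : Matrix (Fin l) (Fin l) ℤ) (n : ℕ) : red p (B ^ n) = (red p B) ^ n := by
  rw [red, red]
  have h2 : (B ^ n).map (Int.castRingHom (ZMod p)) = (B.map (Int.castRingHom (ZMod p))) ^ n := by
    exact map_pow (RingHom.mapMatrix (Int.castRingHom (ZMod p))) B n
  rw [h2]
  exact Matrix.toLin'_pow _ _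

theorem red_one : red p (1 : Matrix (Fin l) (Fin l) ℤ) = 1 := by
  have := red_pow (p := p) (1 : Matrix (Fin l) (Fin l) ℤ) 0
  rwa [pow_zero, pow_zero] at this

theorem trace_red (B : Matrix (Fin l) (Fin l) ℤ) : LinearMap.trace (ZMod p) _ (red p B) = ((trace B : ℤ) : ZMod p) := by
  rw [red, LinearMap.trace_eq_matrix_trace _ (Pi.basisFun (ZMod p) (Fin l)), LinearMap.toMatrix_eq_toMatrix',
    LinearMap.toMatrix'_toLin']
  exact (AddMonoidHom.map_trace (Int.castRingHom (ZMod p)) B).symm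

/-- the dimension of an eigenspace -/
theorem finrank_eig {B : Matrix (Fin l) (Fin l) ℤ} (hB : B ^ m = 1) {μ : ZMod p} (hμ : μ ^ m = 1) (hpm : ¬ p ∣ m) :
    ((finrank (ZMod p) ((red p B).eigenspace μ) : ℕ) : ZMod p) =
      (m : ZMod p)⁻¹ * ∑ k : ZMod m, pw μ (-k) * ((trace (pw B k) : ℤ) : ZMod p) := by
  have hA : (red p B) ^ m = 1 := by rw [← red_pow, hB, red_one]
  rw [← (isProj hA hμ hpm).trace, proj, map_smul, map_sum, smul_eq_mul]
  congr 1
  refine Finset.sum_congr rfl (fun k _ => ?_)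
  rw [map_smul, smul_eq_mul, pw_def (red p B), ← red_pow, trace_red, ← pw_def]

theorem finrank_eq {B : Matrix (Fin l) (Fin l) ℤ} (hB : B ^ m = 1) {q : ZMod p} (hq : q ^ m = 1) (hpm : ¬ p ∣ m)
    (hlp : l < p) (u : (ZMod m)ˣ) :
    finrank (ZMod p) ((red p B).eigenspace (pw q (u : ZMod m))) = finrank (ZMod p) ((red p B).eigenspace q) := by
  have hm : m ≠ 0 := NeZero.ne m
  have hμ : (pw q (u : ZMod m)) ^ m = 1 := by rw [pw_def, ← pow_mul, mul_comm, pow_mul, hq, one_pow]
  have h1 := finrank_eig hB hμ hpm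
  have h2 := finrank_eig hB hq hpm
  have h3 : ∑ k : ZMod m, pw (pw q (u : ZMod m)) (-k) * ((trace (pw B k) : ℤ) : ZMod p) =
      ∑ k : ZMod m, pw q (-k) * ((trace (pw B k) : ℤ) : ZMod p) := by
    refine Fintype.sum_equiv (Units.mulLeft u) _ _ (fun k => ?_)
    rw [Units.mulLeft_apply]
    have h4 : pw (pw q (u : ZMod m)) (-k) = pw q (-((u : ZMod m) * k)) := by
      rw [pw_def, ← pw_mul hq]
      congr 1
      ring
    have h5 : trace (pw B ((u : ZMod m) * k)) = trace (pw B k) := by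
      rw [mul_comm, pw_mul hB]
      refine trace_pow_coprime (pw B k) hm ?_ ?_
      · rw [pw_def, ← pow_mul, mul_comm, pow_mul, hB, one_pow]
      · exact ZMod.val_coe_unit_coprime u
    rw [h4, h5]
  rw [h3, ← h2] at h1
  have h4 : ∀ μ : ZMod p, finrank (ZMod p) ((red p B).eigenspace μ) < p := by
    intro μ
    have h5 := Submodule.finrank_le ((red p B).eigenspace μ)
    rw [finrank_fin_fun] at h5
    omega
  have h5 := (ZMod.natCast_eq_natCast_iff' _ _ _).1 h1
  rwa [Nat.mod_eq_of_lt (h4 _), Nat.mod_eq_of_lt (h4 _)] at h5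

/-- **`2 φ(e) ≤ l`** -/
theorem two_totient_le {B : Matrix (Fin l) (Fin l) ℤ} (hB : B ^ m = 1) {q : ZMod p} (hpm : ¬ p ∣ m)
    (hlp : l < p) (h2 : 2 ≤ finrank (ZMod p) ((red p B).eigenspace q)) : 2 * (orderOf q).totient ≤ l := by
  classical
  have hA : (red p B) ^ m = 1 := by rw [← red_pow, hB, red_one]
  -- `q ^ m = 1`
  have hq : q ^ m = 1 := by
    have h3 : (red p B).eigenspace q ≠ ⊥ := by
      intro h0
      rw [h0, finrank_bot] at h2
      omega
    obtain ⟨x, hx, hx0⟩ := Submodule.exists_mem_ne_zero_of_ne_bot h3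
    rw [Module.End.mem_eigenspace_iff] at hx
    have h4 : ∀ n : ℕ, ((red p B) ^ n) x = q ^ n • x := by
      intro n
      induction n with
      | zero => rw [pow_zero, pow_zero, one_smul]; rfl
      | succ n ih => rw [pow_succ', Module.End.mul_apply, ih, map_smul, hx, smul_smul, pow_succ]
    have h5 := h4 m
    rw [hA, Module.End.one_apply] at h5
    have h6 : (q ^ m - 1) • x = 0 := by rw [sub_smul, one_smul, ← h5, sub_self]
    rcases smul_eq_zero.1 h6 with h | h
    · exact sub_eq_zero.1 h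
    · exact absurd h hx0
  have hem : orderOf q ∣ m := orderOf_dvd_of_pow_eq_one hq
  set e := orderOf q with he
  have he0 : NeZero e := ⟨fun h0 => by rw [h0, zero_dvd_iff] at hem; exact NeZero.ne m hem⟩
  -- the eigenvalues
  let μ : (ZMod e)ˣ → ZMod p := fun v => q ^ (v : ZMod e).val
  have hμinj : Function.Injective μ := by
    intro v w hvw
    have h3 : (v : ZMod e).val = (w : ZMod e).val := by
      have h4 : q ^ (v : ZMod e).val = q ^ (w : ZMod e).val := hvw
      exact pow_injOn_Iio_orderOf (Set.mem_Iio.2 (ZMod.val_lt _)) (Set.mem_Iio.2 (ZMod.val_lt _)) h4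
    exact Units.ext (ZMod.val_injective e h3)
  have hdim : ∀ v : (ZMod e)ˣ, 2 ≤ finrank (ZMod p) ((red p B).eigenspace (μ v)) := by
    intro v
    obtain ⟨u, hu⟩ := ZMod.unitsMap_surjective hem v
    have h3 : μ v = pw q (u : ZMod m) := by
      show q ^ (v : ZMod e).val = q ^ (u : ZMod m).val
      have h4 : ((v : ZMod e)).val = (u : ZMod m).val % e := by
        rw [← hu, ZMod.unitsMap_val, ZMod.cast_eq_val, ZMod.val_natCast]
      rw [h4, ← pow_eq_pow_mod _ (he ▸ pow_orderOf_eq_one q)]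
    rw [h3, finrank_eq hB hq hpm hlp u]
    exact h2
  have hind : iSupIndep (fun v : (ZMod e)ˣ => (red p B).eigenspace (μ v)) :=
    (Module.End.eigenspaces_iSupIndep (red p B)).comp hμinj
  have h3 : ∑ v : (ZMod e)ˣ, finrank (ZMod p) ((red p B).eigenspace (μ v)) ≤ finrank (ZMod p) (Fin l → ZMod p) := by
    have h := hind.dfinsupp_lsum_injective
    have h5 := LinearMap.finrank_le_finrank_of_injective h
    rwa [show finrank (ZMod p) (Π₀ v : (ZMod e)ˣ, (red p B).eigenspace (μ v)) =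
      ∑ v : (ZMod e)ˣ, finrank (ZMod p) ((red p B).eigenspace (μ v)) from by
        rw [LinearEquiv.finrank_eq (DFinsupp.linearEquivFunOnFintype (R := ZMod p)
          (M := fun v : (ZMod e)ˣ => (red p B).eigenspace (μ v)))]
        exact Module.finrank_pi_fintype _] at h5
  rw [finrank_fin_fun] at h3
  have h4 : ∑ v : (ZMod e)ˣ, 2 ≤ ∑ v : (ZMod e)ˣ, finrank (ZMod p) ((red p B).eigenspace (μ v)) :=
    Finset.sum_le_sum (fun v _ => hdim v)
  rw [Finset.sum_const, Finset.card_univ, ZMod.card_units_eq_totient, smul_eq_mul] at h4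
  rw [mul_comm]
  exact h4.trans h3

end Eig

section Tot

theorem not_dvd_of_totient {e d : ℕ} (he : e ≠ 0) (h : e.totient ≤ 5) (hd : 6 ≤ d.totient) : ¬ d ∣ e := by
  intro hde
  have h1 := Nat.totient_dvd_of_dvd hde
  have h2 := Nat.le_of_dvd (Nat.totient_pos.2 (Nat.pos_of_ne_zero he)) h1
  omega

theorem dvd_of_totient {e : ℕ} (he : e ≠ 0) (h : e.totient ≤ 5) : e ∣ 120 := by
  rw [← Nat.factorization_prime_le_iff_dvd he (by norm_num)]
  intro s hs
  by_contra hlt
  push Not at hlt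
  have key : ∀ d : ℕ, s ^ d ∣ 120 → s ^ (d + 1) ∣ e := by
    intro d hd
    have h1 := (hs.pow_dvd_iff_le_factorization (by norm_num)).1 hd
    exact (hs.pow_dvd_iff_le_factorization he).2 (by omega)
  rcases Nat.lt_or_ge s 7 with h7 | h7
  · have h2 := hs.two_le
    interval_cases s
    · exact not_dvd_of_totient he h (d := 16) (by decide) (key 3 (by norm_num))
    · exact not_dvd_of_totient he h (d := 9) (by decide) (key 1 (by norm_num))
    · exact absurd hs (by norm_num)
    · exact not_dvd_of_totient he h (d := 25) (by decide) (key 1 (by norm_num))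
    · exact absurd hs (by norm_num)
  · refine not_dvd_of_totient he h (d := s) ?_ ?_
    · rw [Nat.totient_prime hs]
      omega
    · have := key 0 (by norm_num)
      rwa [zero_add, pow_one] at this

theorem mem_of_totient_le_five {e : ℕ} (he : e ≠ 0) (h : e.totient ≤ 5) :
    e = 1 ∨ e = 2 ∨ e = 3 ∨ e = 4 ∨ e = 5 ∨ e = 6 ∨ e = 8 ∨ e = 10 ∨ e = 12 := by
  have h1 := dvd_of_totient he h
  have h2 : e ∈ Nat.divisors 120 := Nat.mem_divisors.2 ⟨h1, by norm_num⟩
  have h3 : ∀ d ∈ Nat.divisors 120, d.totient ≤ 5 →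
      d = 1 ∨ d = 2 ∨ d = 3 ∨ d = 4 ∨ d = 5 ∨ d = 6 ∨ d = 8 ∨ d = 10 ∨ d = 12 := by decide +kernel
  exact h3 e h2 h

theorem mem_of_totient_le_three {e : ℕ} (he : e ≠ 0) (h : e.totient ≤ 3) :
    e = 1 ∨ e = 2 ∨ e = 3 ∨ e = 4 ∨ e = 6 := by
  have h1 := dvd_of_totient he (h.trans (by norm_num))
  have h2 : e ∈ Nat.divisors 120 := Nat.mem_divisors.2 ⟨h1, by norm_num⟩
  have h3 : ∀ d ∈ Nat.divisors 120, d.totient ≤ 3 →
      d = 1 ∨ d = 2 ∨ d = 3 ∨ d = 4 ∨ d = 6 := by decide +kernel
  exact h3 e h2 h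

end Tot

end Cfsg.Agent.H248.LatEig
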