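import Mathlib
import Cfsg.Agent.H248.LatEig

/-!
# Characters of a lattice of order `p` fixed by `q g` (helper248)

* `two_totient_le` : `g` an automorphism of finite order of `ℤ ^ l`, `l < p`, at least `p ^ 2` characters `χ` of `ℤ ^ l` of
  exponent `p` with `χ (g x) = χ x ^ q`: then `2 φ(e) ≤ l`, `e` the order of `q` modulo `p`.
-/

set_option autoImplicit false
set_option linter.unusedSectionVars false

namespace Cfsg.Agent.H248.LatChar

open Matrix Module Cfsg.Agent.H248.LatEig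

variable {l p q : ℕ} [hp : Fact p.Prime] {k : Type*} [Field k] {ζ : k}

/-- the discrete logarithm -/
theorem exists_log (hζ : IsPrimitiveRoot ζ p) {c : k} (hc : c ^ p = 1) : ∃ a : ZMod p, pw ζ a = c := by
  have : NeZero p := ⟨hp.out.ne_zero⟩
  obtain ⟨i, hi, h⟩ := hζ.eq_pow_of_pow_eq_one hc
  exact ⟨(i : ZMod p), by rw [pw_natCast hζ.pow_eq_one, h]⟩

theorem pw_inj (hζ : IsPrimitiveRoot ζ p) {a b : ZMod p} (h : pw ζ a = pw ζ b) : a = b := by
  have : NeZero p := ⟨hp.out.ne_zero⟩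
  exact ZMod.val_injective p (hζ.pow_inj (ZMod.val_lt a) (ZMod.val_lt b) h)

theorem pw_natCast_mul (hζ : IsPrimitiveRoot ζ p) (n : ℕ) (a : ZMod p) : pw ζ ((n : ZMod p) * a) = pw ζ a ^ n := by
  have : NeZero p := ⟨hp.out.ne_zero⟩
  rw [mul_comm, pw_mul hζ.pow_eq_one, ZMod.val_natCast]
  have h1 : (pw ζ a) ^ p = 1 := by rw [pw_def, ← pow_mul, mul_comm, pow_mul, hζ.pow_eq_one, one_pow]
  exact (pow_eq_pow_mod n h1).symm

theorem two_totient_le (hlp : l < p) (hζ : IsPrimitiveRoot ζ p) (g : (Fin l → ℤ) ≃+ (Fin l → ℤ))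
    (hg : ∃ m, 0 < m ∧ ∀ x, g^[m] x = x) {E : Type*} [Finite E] (hE : p ^ 2 ≤ Nat.card E) (χ : E → (Fin l → ℤ) → k)
    (hadd : ∀ s x y, χ s (x + y) = χ s x * χ s y) (hpp : ∀ s x, χ s x ^ p = 1)
    (hinj : ∀ s t, (∀ i, χ s (Pi.single i 1) = χ t (Pi.single i 1)) → s = t)
    (hq : ∀ s x, χ s (g x) = χ s x ^ q) : 2 * (orderOf (q : ZMod p)).totient ≤ l := by
  classical
  have : NeZero p := ⟨hp.out.ne_zero⟩
  have hζ1 := hζ.pow_eq_one
  -- the logarithm
  choose φ hφ using fun (s : E) (x : Fin l → ℤ) => exists_log hζ (hpp s x)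
  have hφadd : ∀ s x y, φ s (x + y) = φ s x + φ s y := by
    intro s x y
    apply pw_inj hζ
    rw [hφ, pw_add hζ1, hφ, hφ, hadd]
  have hφq : ∀ s x, φ s (g x) = (q : ZMod p) * φ s x := by
    intro s x
    apply pw_inj hζ
    rw [hφ, pw_natCast_mul hζ, hφ, hq]
  let Φ : E → ((Fin l → ℤ) →+ ZMod p) := fun s => AddMonoidHom.mk' (φ s) (hφadd s)
  let v : E → (Fin l → ZMod p) := fun s i => φ s (Pi.single i 1)
  have hΦ : ∀ s x, φ s x = ∑ i, (x i : ZMod p) * v s i := by
    intro s x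
    have h1 : x = ∑ i, x i • (Pi.single i 1 : Fin l → ℤ) := by
      funext j
      rw [Finset.sum_apply, Finset.sum_eq_single j]
      · simp
      · intro i _ hij
        simp [Ne.symm hij]
      · intro h
        exact absurd (Finset.mem_univ j) h
    have h2 : Φ s x = Φ s (∑ i, x i • (Pi.single i 1 : Fin l → ℤ)) := congrArg (Φ s) h1
    rw [map_sum] at h2
    have h3 : φ s x = ∑ i, Φ s (x i • (Pi.single i 1 : Fin l → ℤ)) := h2
    rw [h3]
    refine Finset.sum_congr rfl (fun i _ => ?_)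
    rw [map_zsmul, zsmul_eq_mul]
    rfl
  -- the matrix
  let G : (Fin l → ℤ) →ₗ[ℤ] (Fin l → ℤ) := g.toAddMonoidHom.toIntLinearMap
  let B : Matrix (Fin l) (Fin l) ℤ := LinearMap.toMatrix' G
  have hBv : ∀ s, (red p Bᵀ) (v s) = (q : ZMod p) • v s := by
    intro s
    funext j
    rw [red, Matrix.toLin'_apply, Pi.smul_apply, smul_eq_mul]
    have h1 := hφq s (Pi.single j 1)
    rw [hΦ s (g (Pi.single j 1))] at h1
    rw [← h1]
    rw [Matrix.mulVec, dotProduct]
    refine Finset.sum_congr rfl (fun i _ => ?_)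
    rw [Matrix.map_apply, Matrix.transpose_apply]
    have h2 : B i j = g (Pi.single j 1) i := by
      show LinearMap.toMatrix' G i j = _
      rw [LinearMap.toMatrix'_apply]
      rfl
    rw [h2]
    rfl
  obtain ⟨m, hm, hgm⟩ := hg
  have hGm : G ^ m = 1 := by
    apply LinearMap.ext
    intro x
    rw [Module.End.pow_apply, Module.End.one_apply]
    exact hgm x
  have hBm : Bᵀ ^ m = 1 := by
    have h1 : B ^ m = 1 := by
      show (LinearMap.toMatrixAlgEquiv' G) ^ m = 1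
      rw [← map_pow, hGm, map_one]
    rw [← Matrix.transpose_pow, h1, Matrix.transpose_one]
  -- the `p`-part
  obtain ⟨a, m', hm', hmm⟩ := Nat.exists_eq_pow_mul_and_not_dvd hm.ne' p hp.out.ne_one
  have hm0 : NeZero m' := ⟨by rintro rfl; rw [mul_zero] at hmm; omega⟩
  have hB' : (Bᵀ ^ p ^ a) ^ m' = 1 := by rw [← pow_mul, ← hmm, hBm]
  have hpow : ∀ n s, ((red p Bᵀ) ^ n) (v s) = (q : ZMod p) ^ n • v s := by
    intro n s
    induction n with
    | zero => rw [pow_zero, pow_zero, one_smul]; rfl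
    | succ n ih => rw [pow_succ', Module.End.mul_apply, ih, map_smul, hBv, smul_smul, pow_succ]
  have hmem : ∀ s, v s ∈ (red p (Bᵀ ^ p ^ a)).eigenspace (q : ZMod p) := by
    intro s
    rw [Module.End.mem_eigenspace_iff, red_pow, hpow, ZMod.pow_card_pow]
  refine LatEig.two_totient_le hB' hm' hlp ?_
  -- counting
  have h1 : Nat.card E ≤ Nat.card ((red p (Bᵀ ^ p ^ a)).eigenspace (q : ZMod p)) := by
    refine Nat.card_le_card_of_injective (fun s => ⟨v s, hmem s⟩) (fun s t hst => hinj s t (fun i => ?_))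
    have h2 : v s = v t := congrArg Subtype.val hst
    have h3 : φ s (Pi.single i 1) = φ t (Pi.single i 1) := congrFun h2 i
    rw [← hφ, ← hφ, h3]
  have h2 := hE.trans h1
  rw [Module.natCard_eq_pow_finrank (K := ZMod p), Nat.card_zmod] at h2
  exact (Nat.pow_le_pow_iff_right hp.out.one_lt).1 h2

end Cfsg.Agent.H248.LatChar
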