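import Mathlib
import Cfsg.Agent.TwoFusion.FpfThree
import Cfsg.Agent.TwoFusion.FpfAbelian
import Cfsg.Agent.TwoFusion.FpfPowBasic
import Cfsg.Agent.OddCyclic.FpfThree

/-!
# A 2-group with commuting operators `α` (order 3, fixed-point-free) and `τ` (order 2, fixing a central four-group) (helper248)

`Hyp τ α V` : `τ² = 1`, `α³ = 1`, `τα = ατ`, `α` is fixed-point-free, and the fixed points of `τ` are a central elementary
abelian subgroup `V` of order 4. Then `T` is elementary abelian of order 16, or abelian with at most three involutions,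
or of order 64 with `Z(T) = V`, all squares in `V`.
-/

set_option autoImplicit false

namespace Cfsg.Agent.H248.FourAct

open Subgroup Cfsg.Agent.TwoFusion.FpfThree

open scoped commutatorElement

/-- the elements of a subgroup of order four invariant under a fixed-point-free automorphism of order three -/
theorem four_cases {T : Type*} [Group T] [Finite T] {α : T →* T} (hf : Fpf3 α) {V : Subgroup T}
    (hV : ∀ v ∈ V, α v ∈ V) (hc : Nat.card ↥V = 4) {z : T} (hz : z ∈ V) (hz1 : z ≠ 1) {v : T} (hv : v ∈ V) :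
    v = 1 ∨ v = z ∨ v = α z ∨ v = α (α z) := by
  classical
  have ha1 : α z ∈ V := hV _ hz
  have ha2 : α (α z) ∈ V := hV _ ha1
  have n1 : α z ≠ z := fun e => hz1 (hf.fpf z e)
  have n2 : α z ≠ 1 := fun e => hz1 (hf.map_eq_one e)
  have n3 : α (α z) ≠ 1 := fun e => n2 (hf.map_eq_one e)
  have n4 : α (α z) ≠ α z := fun e => n1 (hf.injective e)
  have n5 : α (α z) ≠ z := fun e => n1 (by
    have := hf.cube z
    rw [e] at this
    exact this)
  let s : Finset T := {1, z, α z, α (α z)}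
  have hs : s.card = 4 := by
    have m1 : (1 : T) ∉ ({z, α z, α (α z)} : Finset T) := by
      simp only [Finset.mem_insert, Finset.mem_singleton, not_or]
      exact ⟨hz1.symm, n2.symm, n3.symm⟩
    have m2 : z ∉ ({α z, α (α z)} : Finset T) := by
      simp only [Finset.mem_insert, Finset.mem_singleton, not_or]
      exact ⟨n1.symm, n5.symm⟩
    have m3 : α z ∉ ({α (α z)} : Finset T) := by
      simp only [Finset.mem_singleton]
      exact n4.symm
    change (insert (1 : T) (insert z (insert (α z) ({α (α z)} : Finset T)))).card = 4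
    rw [Finset.card_insert_of_notMem m1, Finset.card_insert_of_notMem m2, Finset.card_insert_of_notMem m3,
      Finset.card_singleton]
  have hsV : (s : Set T) ⊆ V := by
    intro y hy
    simp only [s, Finset.coe_insert, Finset.coe_singleton, Set.mem_insert_iff, Set.mem_singleton_iff] at hy
    rcases hy with rfl | rfl | rfl | rfl
    · exact V.one_mem
    · exact hz
    · exact ha1
    · exact ha2
  have heq : (s : Set T) = V := by
    refine Set.eq_of_subset_of_ncard_le hsV ?_ (Set.toFinite _)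
    rw [← Nat.card_coe_set_eq, Set.ncard_coe_finset, hs]
    exact hc.le
  have : v ∈ (s : Set T) := by rw [heq]; exact hv
  simpa only [s, Finset.coe_insert, Finset.coe_singleton, Set.mem_insert_iff, Set.mem_singleton_iff] using this

/-- a `p`-power-order map has as many fixed points as the cardinality of the set modulo `p` -/
theorem card_fixed {X : Type*} [Finite X] {p : ℕ} [Fact p.Prime] (f : X → X) (hf : f^[p] = id) :
    Nat.card X ≡ Nat.card {x : X // f x = x} [MOD p] := by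
  classical
  have := Fintype.ofFinite X
  let g : Function.End X := f
  have hg : ∀ n : ℕ, g ^ n = (f^[n] : X → X) := by
    intro n
    induction n with
    | zero => rfl
    | succ n ih =>
      rw [pow_succ, ih, Function.iterate_succ]
      rfl
  have h1 := Equiv.Perm.card_fixedPoints_modEq (α := X) (f := g) (p := p) (n := 1) (by
    rw [pow_one, hg, hf]
    rfl)
  rw [Nat.card_eq_fintype_card, Nat.card_eq_fintype_card]
  exact h1

/-- an automorphism of order two of a nontrivial 2-group has a nontrivial fixed point -/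
theorem exists_fixed {Q : Type*} [Group Q] [Finite Q] (hQ : IsPGroup 2 Q) (hne : ∃ x : Q, x ≠ 1) (τ : Q → Q)
    (h1 : τ 1 = 1) (tt : ∀ x, τ (τ x) = x) : ∃ x : Q, x ≠ 1 ∧ τ x = x := by
  have hf := card_fixed (p := 2) τ (by funext x; exact tt x)
  obtain ⟨n, hn⟩ := IsPGroup.iff_card.1 hQ
  have hn0 : n ≠ 0 := by
    rintro rfl
    obtain ⟨x, hx⟩ := hne
    rw [pow_zero, Nat.card_eq_one_iff_unique] at hn
    exact hx (hn.1.elim _ _)
  by_contra hcon
  push Not at hcon
  have h2 : Nat.card {x : Q // τ x = x} = 1 := by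
    rw [Nat.card_eq_one_iff_unique]
    refine ⟨⟨fun a b => Subtype.ext ?_⟩, ⟨1, h1⟩⟩
    have ha : (a : Q) = 1 := by
      by_contra h
      exact hcon _ h a.2
    have hb : (b : Q) = 1 := by
      by_contra h
      exact hcon _ h b.2
    rw [ha, hb]
  rw [h2, hn] at hf
  have h3 : 2 ∣ 2 ^ n := dvd_pow_self 2 hn0
  have h4 := (Nat.modEq_zero_iff_dvd.2 h3).symm.trans hf
  exact absurd h4 (by decide)

/-- `|V| ≡ 1` modulo 3 -/
theorem card_mod_three {T : Type*} [Group T] [Finite T] {α : T →* T} (hf : Fpf3 α) {V : Subgroup T}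
    (hV : ∀ v ∈ V, α v ∈ V) : Nat.card ↥V ≡ 1 [MOD 3] := by
  have : Fact (Nat.Prime 3) := ⟨Nat.prime_three⟩
  have h1 := card_fixed (p := 3) (fun v : ↥V => (⟨α v, hV v v.2⟩ : ↥V)) (by
    funext v
    exact Subtype.ext (hf.cube v))
  have h2 : Nat.card {v : ↥V // (⟨α v, hV v v.2⟩ : ↥V) = v} = 1 := by
    rw [Nat.card_eq_one_iff_unique]
    refine ⟨⟨fun a b => ?_⟩, ⟨1, Subtype.ext (map_one α)⟩⟩
    have ha : ((a : ↥V) : T) = 1 := hf.fpf _ (congrArg Subtype.val a.2)
    have hb : ((b : ↥V) : T) = 1 := hf.fpf _ (congrArg Subtype.val b.2)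
    exact Subtype.ext (Subtype.ext (ha.trans hb.symm))
  rw [h2] at h1
  exact h1

theorem exists_repr' {A : Type*} [Group A] [Finite A] (hab : ∀ x y : A, x * y = y * x) (hA : IsPGroup 2 A)
    {α : A →* A} (h : Fpf3 α) (hs : Nat.card {x : A // x ^ 2 = 1} ≤ 4) :
    ∃ a : A, ∀ b : A, ∃ i j : ℤ, b = a ^ i * (α a) ^ j := by
  let _ : CommGroup A := { (inferInstance : Group A) with mul_comm := hab }
  exact Cfsg.Agent.TwoFusion.FpfAbelian.exists_repr hA
    (Cfsg.Agent.TwoFusion.FpfPowBasic.fpfPow_of_fpf3 h) hs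

theorem exists_mulEquiv' {A : Type*} [Group A] [Finite A] (hab : ∀ x y : A, x * y = y * x) (hA : IsPGroup 2 A)
    {α : A →* A} (h : Fpf3 α) (hs : Nat.card {x : A // x ^ 2 = 1} ≤ 4) :
    ∃ n : ℕ, Nonempty (A ≃* Multiplicative (ZMod (2 ^ n) × ZMod (2 ^ n))) := by
  let _ : CommGroup A := { (inferInstance : Group A) with mul_comm := hab }
  exact Cfsg.Agent.TwoFusion.FpfAbelian.exists_mulEquiv hA
    (Cfsg.Agent.TwoFusion.FpfPowBasic.fpfPow_of_fpf3 h) hs

/-- the hypothesis -/
structure Hyp {T : Type*} [Group T] (τ α : T →* T) (V : Subgroup T) : Prop where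
  tt : ∀ x, τ (τ x) = x
  fpf : Fpf3 α
  comm : ∀ x, τ (α x) = α (τ x)
  card : Nat.card ↥V = 4
  sq : ∀ v ∈ V, v * v = 1
  cen : ∀ v ∈ V, ∀ x, v * x = x * v
  fix : ∀ x, τ x = x ↔ x ∈ V

namespace Hyp

variable {T : Type*} [Group T] {τ α : T →* T} {V : Subgroup T}

theorem alpha_mem (h : Hyp τ α V) {v : T} (hv : v ∈ V) : α v ∈ V := by
  rw [← h.fix, h.comm, (h.fix v).2 hv]

theorem mmc (hab : ∀ x y : T, x * y = y * x) (a b c d : T) : a * b * (c * d) = a * c * (b * d) := by
  rw [mul_assoc, ← mul_assoc b c d, hab b c, mul_assoc c b d, ← mul_assoc]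

/-- `θ x = x⁻¹ τ(x)` on an abelian group -/
theorem theta_mul (hab : ∀ x y : T, x * y = y * x) (x y : T) :
    (x * y)⁻¹ * τ (x * y) = (x⁻¹ * τ x) * (y⁻¹ * τ y) := by
  rw [map_mul, mul_inv_rev, hab y⁻¹ x⁻¹, mmc hab]

theorem mem_of_theta (h : Hyp τ α V) {x y : T} (e : x⁻¹ * τ x = y⁻¹ * τ y) : x * y⁻¹ ∈ V := by
  rw [← h.fix, map_mul, map_inv]
  have h1 : τ x = x * (y⁻¹ * τ y) := by rw [← e]; group
  rw [h1, mul_assoc, mul_assoc, mul_inv_cancel, mul_one]

/-- the abelian case -/
theorem abelian [Finite T] (hT : IsPGroup 2 T) (h : Hyp τ α V) (hab : ∀ x y : T, x * y = y * x) :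
    (Nat.card T = 16 ∧ ∀ x : T, x * x = 1) ∨ ∀ x : T, x * x = 1 → x ∈ V := by
  by_cases h1 : ∀ x : T, x * x = 1 → x ∈ V
  · exact Or.inr h1
  left
  push Not at h1
  obtain ⟨w, hw, hwV⟩ := h1
  -- the element `v₀ = θ w`
  have hv0 : w⁻¹ * τ w ∈ V := by
    rw [← h.fix, map_mul, map_inv, h.tt]
    have h2 : w⁻¹ = w := inv_eq_of_mul_eq_one_left hw
    have h3 : (τ w)⁻¹ = τ w := by rw [← map_inv, h2]
    rw [h3, h2, hab]
  have hv1 : w⁻¹ * τ w ≠ 1 := by
    intro e
    exact hwV ((h.fix w).1 (inv_mul_eq_one.1 e).symm)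
  -- every element of `V` is `θ` of an involution
  have hθV : ∀ v ∈ V, ∃ u : T, u * u = 1 ∧ u⁻¹ * τ u = v := by
    intro v hv
    rcases four_cases h.fpf (fun v hv => h.alpha_mem hv) h.card hv0 hv1 hv with rfl | rfl | rfl | rfl
    · exact ⟨1, mul_one 1, by simp⟩
    · exact ⟨w, hw, rfl⟩
    · refine ⟨α w, by rw [← map_mul, hw, map_one], ?_⟩
      rw [h.comm, map_mul, map_inv]
    · refine ⟨α (α w), by rw [← map_mul, ← map_mul, hw, map_one, map_one], ?_⟩
      rw [h.comm, h.comm, map_mul, map_inv, map_mul, map_inv]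
  -- every `θ x` is in `V`
  have hinv : ∀ x : T, τ (x⁻¹ * τ x) = (x⁻¹ * τ x)⁻¹ := by
    intro x
    rw [map_mul, map_inv, h.tt, mul_inv_rev, inv_inv]
  have hN4 : ∀ x : T, (x⁻¹ * τ x) * (x⁻¹ * τ x) ∈ V → x⁻¹ * τ x ∈ V := by
    intro x hx
    -- `n = θ x`, `θ (x²) = n² = θ u` with `u² = 1`
    obtain ⟨u, hu, hu2⟩ := hθV _ hx
    have e1 : (x * x)⁻¹ * τ (x * x) = u⁻¹ * τ u := by rw [theta_mul hab, hu2]
    have h2 := h.mem_of_theta e1
    have h3 : (x * x) * (x * x) = 1 := by
      have h4 := h.sq _ h2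
      have h5 : u⁻¹ = u := inv_eq_of_mul_eq_one_left hu
      rw [h5] at h4
      rw [mmc hab, hu, mul_one] at h4
      exact h4
    -- `θ n = n⁻² ` and `n² = θ(x²)`
    have h6 : (x⁻¹ * τ x) * (x⁻¹ * τ x) * ((x⁻¹ * τ x) * (x⁻¹ * τ x)) = 1 := by
      have := h.sq _ hx
      exact this
    have e2 : (x⁻¹ * τ x)⁻¹ * τ (x⁻¹ * τ x) = (x * x)⁻¹ * τ (x * x) := by
      rw [hinv, theta_mul hab]
      rw [← mul_inv_rev]
      exact inv_eq_of_mul_eq_one_left h6
    have h7 := h.mem_of_theta e2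
    -- so `n² = 1`
    have h8 : (x⁻¹ * τ x) * (x⁻¹ * τ x) = 1 := by
      have h9 := h.sq _ h7
      have h10 : (x * x)⁻¹ * (x * x)⁻¹ = 1 := by rw [← mul_inv_rev, h3, inv_one]
      rw [mmc hab, h10, mul_one] at h9
      exact h9
    rw [← h.fix, hinv]
    exact inv_eq_of_mul_eq_one_left h8
  have hNV : ∀ x : T, x⁻¹ * τ x ∈ V := by
    -- by descent on the order of `θ x`
    have key : ∀ k : ℕ, ∀ x : T, (x⁻¹ * τ x) ^ 2 ^ k = 1 → x⁻¹ * τ x ∈ V := by
      intro k
      induction k with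
      | zero =>
        intro x hx
        rw [pow_zero, pow_one] at hx
        rw [hx]
        exact V.one_mem
      | succ k ih =>
        intro x hx
        refine hN4 x ?_
        have e : (x⁻¹ * τ x) * (x⁻¹ * τ x) = (x * x)⁻¹ * τ (x * x) := (theta_mul hab x x).symm
        rw [e]
        refine ih _ ?_
        rw [← e, ← pow_two, ← pow_mul, ← pow_succ']
        exact hx
    intro x
    obtain ⟨k, hk⟩ := hT (x⁻¹ * τ x)
    exact key k x hk
  -- every element is an involution
  have hsq : ∀ x : T, x * x = 1 := by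
    intro x
    obtain ⟨u, hu, hu2⟩ := hθV _ (hNV x)
    have h2 := h.mem_of_theta hu2.symm
    have h3 := h.sq _ h2
    have h5 : u⁻¹ = u := inv_eq_of_mul_eq_one_left hu
    rw [h5] at h3
    rw [mmc hab, hu, mul_one] at h3
    exact h3
  refine ⟨?_, hsq⟩
  -- the order
  let θ : T →* T :=
    { toFun := fun x => x⁻¹ * τ x
      map_one' := by simp
      map_mul' := theta_mul hab }
  have hker : θ.ker = V := by
    ext x
    rw [MonoidHom.mem_ker, ← h.fix]
    change x⁻¹ * τ x = 1 ↔ _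
    rw [inv_mul_eq_one, eq_comm]
  have hran : θ.range = V := by
    apply le_antisymm
    · rintro _ ⟨x, rfl⟩
      exact hNV x
    · intro v hv
      obtain ⟨u, -, hu⟩ := hθV v hv
      exact ⟨u, hu⟩
  have h2 := Subgroup.card_mul_index θ.ker
  rw [Subgroup.index_ker, hker, hran, h.card] at h2
  omega

theorem card_sq_le [Finite T] (h : Hyp τ α V) (h1 : ∀ x : T, x * x = 1 → x ∈ V) :
    Nat.card {x : T // x ^ 2 = 1} ≤ 4 := by
  rw [← h.card]
  refine Nat.card_le_card_of_injective (fun x : {x : T // x ^ 2 = 1} => (⟨x, h1 x (by rw [← pow_two]; exact x.2)⟩ : ↥V)) ?_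
  intro a b e
  exact Subtype.ext (congrArg (fun z : ↥V => (z : T)) e)

/-- **the quotient by a central subgroup `K ≥ V` containing the commutators** -/
theorem quot [Finite T] (hT : IsPGroup 2 T) (h : Hyp τ α V) (hna : ¬ ∀ x y : T, x * y = y * x) (K : Subgroup T)
    (hKc : ∀ k ∈ K, ∀ x, k * x = x * k) (hVK : V ≤ K) (hKτ : ∀ k ∈ K, τ k ∈ K) (hKα : ∀ k ∈ K, α k ∈ K)
    (hcomm : ∀ x y : T, ⁅x, y⁆ ∈ K) :
    K.index = 16 ∧ (∀ x : T, x * x ∈ K) ∧ ∀ k ∈ K, τ k = k⁻¹ := by
  have hKn : K.Normal := ⟨fun k hk g => by rw [← hKc k hk g, mul_assoc, mul_inv_cancel, mul_one]; exact hk⟩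
  have hKtop : ∃ x : T, x ∉ K := by
    by_contra hcon
    push Not at hcon
    exact hna fun x y => hKc x (hcon x) y
  let τ' : T ⧸ K →* T ⧸ K := QuotientGroup.map K K τ (fun k hk => hKτ k hk)
  let α' : T ⧸ K →* T ⧸ K := QuotientGroup.map K K α (fun k hk => hKα k hk)
  have hτ' : ∀ x : T, τ' (x : T ⧸ K) = ((τ x : T) : T ⧸ K) := fun x => rfl
  have hα' : ∀ x : T, α' (x : T ⧸ K) = ((α x : T) : T ⧸ K) := fun x => rfl
  have hf' : Fpf3 α' := by
    constructor
    · intro x
      induction x using QuotientGroup.induction_on with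
      | H x => rw [hα', hα', hα', h.fpf.cube]
    · intro x hx
      induction x using QuotientGroup.induction_on with
      | H x =>
        rw [hα'] at hx
        have h1 : (α x)⁻¹ * x ∈ K := QuotientGroup.eq.1 hx
        -- `α` is fixed-point-free on `K`
        let αK : ↥K →* ↥K := (α.comp K.subtype).codRestrict K (fun k => hKα k k.2)
        have hfK : Fpf3 αK := ⟨fun k => Subtype.ext (h.fpf.cube k), fun k hk =>
          Subtype.ext (h.fpf.fpf k (congrArg Subtype.val hk))⟩
        obtain ⟨y, hy⟩ := hfK.exists_eq ⟨(α x)⁻¹ * x, h1⟩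
        have hy' : (α x)⁻¹ * x = (y : T)⁻¹ * α y := congrArg Subtype.val hy
        have h2 : α (x * (y : T)) = x * y := by
          rw [map_mul]
          have h3 : x = α x * ((y : T)⁻¹ * α y) := by rw [← hy']; group
          have h4 : (y : T)⁻¹ * α y * y = α y := by
            rw [hKc _ (K.mul_mem (K.inv_mem y.2) (hKα _ y.2)) (y : T)]
            group
          conv_rhs => rw [h3]
          rw [mul_assoc, h4]
        have h5 := h.fpf.fpf _ h2
        have h6 : x = (y : T)⁻¹ := eq_inv_of_mul_eq_one_left h5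
        rw [QuotientGroup.eq_one_iff, h6]
        exact K.inv_mem y.2
  have htt' : ∀ x, τ' (τ' x) = x := by
    intro x
    induction x using QuotientGroup.induction_on with
    | H x => rw [hτ', hτ', h.tt]
  have hab' : ∀ x y : T ⧸ K, x * y = y * x := by
    intro x y
    induction x using QuotientGroup.induction_on with
    | H x =>
      induction y using QuotientGroup.induction_on with
      | H y =>
        have h1 : ((⁅x, y⁆ : T) : T ⧸ K) = 1 := (QuotientGroup.eq_one_iff _).2 (hcomm x y)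
        rw [commutatorElement_def] at h1
        have h2 : (x : T ⧸ K) * y * (x : T ⧸ K)⁻¹ * (y : T ⧸ K)⁻¹ = 1 := h1
        rw [mul_inv_eq_one, mul_inv_eq_iff_eq_mul] at h2
        exact h2
  have hQ2 : IsPGroup 2 (T ⧸ K) := hT.to_quotient K
  -- the fixed points of `τ'`
  let Y' : Subgroup (T ⧸ K) :=
    { carrier := {x | τ' x = x}
      one_mem' := map_one τ'
      mul_mem' := by
        intro a b ha hb
        change τ' (a * b) = a * b
        rw [map_mul, show τ' a = a from ha, show τ' b = b from hb]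
      inv_mem' := by
        intro a ha
        change τ' a⁻¹ = a⁻¹
        rw [map_inv, show τ' a = a from ha] }
  have hY' : ∀ x, x ∈ Y' ↔ τ' x = x := fun x => Iff.rfl
  have hcomm' : ∀ x, τ' (α' x) = α' (τ' x) := by
    intro x
    induction x using QuotientGroup.induction_on with
    | H x => rw [hα', hτ', hτ', hα', h.comm]
  have hY'α : ∀ x ∈ Y', α' x ∈ Y' := by
    intro x hx
    rw [hY', hcomm', (hY' x).1 hx]
  -- the preimage of `Y'` and `θ`
  let Y : Subgroup T := Y'.comap (QuotientGroup.mk' K)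
  have hY : ∀ x, x ∈ Y ↔ x⁻¹ * τ x ∈ K := by
    intro x
    rw [Subgroup.mem_comap, hY']
    change ((τ x : T) : T ⧸ K) = (x : T ⧸ K) ↔ _
    rw [eq_comm, QuotientGroup.eq]
  have hKY : K ≤ Y := by
    intro k hk
    rw [hY]
    exact K.mul_mem (K.inv_mem hk) (hKτ k hk)
  let θ : ↥Y →* ↥K :=
    { toFun := fun x => ⟨(x : T)⁻¹ * τ x, (hY x).1 x.2⟩
      map_one' := Subtype.ext (by simp)
      map_mul' := by
        intro x y
        apply Subtype.ext
        change ((x : T) * y)⁻¹ * τ ((x : T) * y) = (x : T)⁻¹ * τ x * ((y : T)⁻¹ * τ y)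
        rw [map_mul, mul_inv_rev]
        calc (y : T)⁻¹ * (x : T)⁻¹ * (τ x * τ y) = (y : T)⁻¹ * ((x : T)⁻¹ * τ x) * τ y := by group
          _ = ((x : T)⁻¹ * τ x) * (y : T)⁻¹ * τ y := by rw [← hKc _ ((hY x).1 x.2)]
          _ = _ := by group }
  have hθ : ∀ x : ↥Y, ((θ x : ↥K) : T) = (x : T)⁻¹ * τ x := fun x => rfl
  have hkerθ : Nat.card ↥θ.ker = 4 := by
    rw [← h.card]
    refine Nat.card_congr (Equiv.ofBijective (fun x : ↥θ.ker => (⟨((x : ↥Y) : T), ?_⟩ : ↥V)) ⟨?_, ?_⟩)
    · have := congrArg Subtype.val ((MonoidHom.mem_ker).1 x.2)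
      rw [hθ] at this
      rw [← h.fix]
      exact (inv_mul_eq_one.1 this).symm
    · intro a b e
      exact Subtype.ext (Subtype.ext (congrArg (fun z : ↥V => (z : T)) e))
    · rintro ⟨v, hv⟩
      refine ⟨⟨⟨v, hKY (hVK hv)⟩, ?_⟩, rfl⟩
      rw [MonoidHom.mem_ker]
      apply Subtype.ext
      rw [hθ]
      change v⁻¹ * τ v = 1
      rw [(h.fix v).2 hv, inv_mul_cancel]
  have hcardY : Nat.card ↥Y = 4 * Nat.card ↥θ.range := by
    rw [← Subgroup.card_mul_index θ.ker, Subgroup.index_ker, hkerθ]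
  have hcardY' : Nat.card ↥Y = Nat.card ↥K * Nat.card ↥Y' := by
    have h1 : Y.index = Y'.index := Subgroup.index_comap_of_surjective Y' (QuotientGroup.mk'_surjective K)
    have h2 : Nat.card ↥Y * Y.index = Nat.card T := Subgroup.card_mul_index Y
    have h3 : Nat.card ↥Y' * Y'.index = Nat.card (T ⧸ K) := Subgroup.card_mul_index Y'
    have h4 : Nat.card T = Nat.card (T ⧸ K) * Nat.card ↥K := Subgroup.card_eq_card_quotient_mul_card_subgroup K
    have h5 : 0 < Y'.index := Nat.pos_of_ne_zero Subgroup.index_ne_zero_of_finite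
    refine Nat.eq_of_mul_eq_mul_right h5 ?_
    rw [← h1, h2, h4, ← h3, h1]
    ring
  have hK0 : 0 < Nat.card ↥K := Nat.card_pos
  have hle : Nat.card ↥θ.range ≤ Nat.card ↥K := Nat.card_le_card_of_injective _ (Subtype.val_injective)
  have hne' : ∃ x : T ⧸ K, x ≠ 1 := by
    obtain ⟨x, hx⟩ := hKtop
    exact ⟨(x : T ⧸ K), fun e => hx ((QuotientGroup.eq_one_iff x).1 e)⟩
  obtain ⟨y₀, hy₀, hy₀'⟩ := exists_fixed hQ2 hne' τ' (map_one τ') htt'
  have hY1 : Nat.card ↥Y' ≠ 1 := by
    intro e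
    rw [Subgroup.card_eq_one] at e
    have : y₀ ∈ Y' := hy₀'
    rw [e, mem_bot] at this
    exact hy₀ this
  have hmod := card_mod_three hf' hY'α
  have hY'4 : Nat.card ↥Y' ≤ 4 := by
    have h1 : Nat.card ↥K * Nat.card ↥Y' ≤ Nat.card ↥K * 4 := by
      rw [← hcardY', hcardY, mul_comm (Nat.card ↥K)]
      exact Nat.mul_le_mul_left 4 hle
    exact Nat.le_of_mul_le_mul_left h1 hK0
  have hY'card : Nat.card ↥Y' = 4 := by
    have h0 : 0 < Nat.card ↥Y' := Nat.card_pos
    generalize Nat.card ↥Y' = m at hY1 hmod hY'4 h0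
    interval_cases m
    · exact (hY1 rfl).elim
    · exact absurd hmod (by decide)
    · exact absurd hmod (by decide)
    · rfl
  have hθs : θ.range = ⊤ := by
    apply Subgroup.eq_top_of_card_eq
    rw [hcardY, hY'card, mul_comm] at hcardY'
    exact Nat.eq_of_mul_eq_mul_right (by norm_num) hcardY'
  have hinv : ∀ k ∈ K, τ k = k⁻¹ := by
    intro k hk
    have h1 : (⟨k, hk⟩ : ↥K) ∈ θ.range := by rw [hθs]; trivial
    obtain ⟨y, hy⟩ := h1
    have h2 : (y : T)⁻¹ * τ y = k := by
      rw [← hθ, hy]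
    rw [← h2, map_mul, map_inv, h.tt]
    group
  -- the exponent of `Y'`
  have hY'2 : ∀ y ∈ Y', y * y = 1 := by
    obtain ⟨y₁, hy₁⟩ : ∃ y₁ : ↥Y', orderOf y₁ = 2 := by
      have : Fact (Nat.Prime 2) := ⟨Nat.prime_two⟩
      exact exists_prime_orderOf_dvd_card' 2 (by rw [hY'card]; norm_num)
    have hy2 : (y₁ : T ⧸ K) * y₁ = 1 := by
      have := pow_orderOf_eq_one y₁
      rw [hy₁, pow_two] at this
      exact congrArg Subtype.val this
    have hy1 : (y₁ : T ⧸ K) ≠ 1 := by
      intro e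
      have : y₁ = 1 := Subtype.ext e
      rw [this, orderOf_one] at hy₁
      omega
    intro y hy
    rcases four_cases hf' hY'α hY'card y₁.2 hy1 hy with rfl | rfl | rfl | rfl
    · exact mul_one 1
    · exact hy2
    · rw [← map_mul, hy2, map_one]
    · rw [← map_mul, ← map_mul, hy2, map_one, map_one]
  have hyp' : Hyp τ' α' Y' :=
    { tt := htt'
      fpf := hf'
      comm := hcomm'
      card := hY'card
      sq := hY'2
      cen := fun v _ x => hab' v x
      fix := fun x => Iff.rfl }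
  rcases hyp'.abelian hQ2 hab' with ⟨h1, h2⟩ | h1
  · refine ⟨h1, fun x => ?_, hinv⟩
    rw [← QuotientGroup.eq_one_iff]
    exact h2 (x : T ⧸ K)
  · exfalso
    obtain ⟨a, ha⟩ := exists_repr' hab' hQ2 hf' (hyp'.card_sq_le h1)
    obtain ⟨a, rfl⟩ := QuotientGroup.mk_surjective a
    apply hna
    have hrep : ∀ b : T, ∃ (i j : ℤ) (k : T), k ∈ K ∧ b = a ^ i * (α a) ^ j * k := by
      intro b
      obtain ⟨i, j, hb⟩ := ha (b : T ⧸ K)
      refine ⟨i, j, (a ^ i * (α a) ^ j)⁻¹ * b, ?_, by group⟩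
      rw [← QuotientGroup.eq]
      exact hb.symm
    have hc : Commute a (α a) := h.fpf.comm a
    intro x y
    obtain ⟨i, j, k, hk, rfl⟩ := hrep x
    obtain ⟨i', j', k', hk', rfl⟩ := hrep y
    have c1 : Commute (a ^ i * (α a) ^ j) (a ^ i' * (α a) ^ j') := by
      refine Commute.mul_left (Commute.mul_right ?_ ?_) (Commute.mul_right ?_ ?_)
      · exact (Commute.refl a).zpow_zpow i i'
      · exact hc.zpow_zpow i j'
      · exact hc.symm.zpow_zpow j i'
      · exact (Commute.refl (α a)).zpow_zpow j j'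
    have c2 : Commute k' (a ^ i * (α a) ^ j * k) := hKc k' hk' _
    have c3 : Commute k (a ^ i' * (α a) ^ j') := hKc k hk _
    exact Commute.mul_right (Commute.mul_left c1 c3) c2.symm

/-- **the nonabelian case** -/
theorem nonabelian [Finite T] (hT : IsPGroup 2 T) (h : Hyp τ α V) (hna : ¬ ∀ x y : T, x * y = y * x) :
    Nat.card T = 64 ∧ (∀ x : T, x * x ∈ V) ∧ center T = V := by
  have hcz : ∀ x y : T, ⁅x, y⁆ ∈ center T := Cfsg.Agent.OddCyclic.FpfThree.comm_mem_center h.fpf hT
  have hVZ : V ≤ center T := by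
    intro v hv
    rw [mem_center_iff]
    exact fun g => (h.cen v hv g).symm
  have hsurjτ : Function.Surjective τ := fun x => ⟨τ x, h.tt x⟩
  have hsurjα : Function.Surjective α := fun x => ⟨α (α x), h.fpf.cube x⟩
  have hZinv : ∀ β : T →* T, Function.Surjective β → ∀ k ∈ center T, β k ∈ center T := by
    intro β hβ k hk
    rw [mem_center_iff] at hk ⊢
    intro g
    obtain ⟨g, rfl⟩ := hβ g
    rw [← map_mul, ← map_mul, hk g]
  obtain ⟨hZ16, hZsq, hZτ⟩ := quot hT h hna (center T) (fun k hk x => ((mem_center_iff.1 hk) x).symm) hVZ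
    (hZinv τ hsurjτ) (hZinv α hsurjα) hcz
  have hcV : ∀ x y : T, ⁅x, y⁆ ∈ V := by
    intro x y
    have h1 : ⁅x, y⁆ ^ 2 = 1 := by
      rw [← h.fpf.sq_comm, commutatorElement_eq_one_iff_mul_comm, pow_two]
      exact ((mem_center_iff.1 (hZsq x)) y).symm
    rw [← h.fix, hZτ _ (hcz x y)]
    rw [pow_two] at h1
    exact inv_eq_of_mul_eq_one_left h1
  obtain ⟨hV16, hVsq, -⟩ := quot hT h hna V h.cen le_rfl (fun v hv => by rw [(h.fix v).2 hv]; exact hv)
    (fun v hv => h.alpha_mem hv) hcV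
  refine ⟨?_, hVsq, ?_⟩
  · rw [← Subgroup.card_mul_index V, h.card, hV16]
  · symm
    apply Subgroup.eq_of_le_of_card_ge hVZ
    have h1 := Subgroup.card_mul_index V
    have h2 := Subgroup.card_mul_index (center T)
    rw [hV16] at h1
    rw [hZ16] at h2
    omega

end Hyp

end Cfsg.Agent.H248.FourAct
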