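import Mathlib
import Cfsg.Agent.H248.FourAct
import Cfsg.Agent.Lib.FieldFour
import Cfsg.Agent.TypeL3.Model
import Cfsg.Agent.SylowL.SylowPSL
import Cfsg.Agent.TwoFusion.U34Unique

/-!
# The group of order 64: `Syl₂(L₃(4))` or `Syl₂(U₃(4))` (helper248)
-/

set_option autoImplicit false
set_option linter.unusedSimpArgs false
set_option linter.unusedTactic false

namespace Cfsg.Agent.H248.FourAct

open Subgroup Cfsg.Agent.TwoFusion.FpfThree Cfsg.Agent.Lib.FieldFour

open scoped commutatorElement

section Coord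

variable {T : Type*} [Group T]

/-- the coordinate function on `⟨x, x'⟩` -/
def co (x x' : T) : F4 → T
  | .o => 1
  | .i => x
  | .w => x'
  | .v => x * x'

theorem co_add {x x' : T} (h1 : x * x = 1) (h2 : x' * x' = 1) (h3 : x * x' = x' * x) (a b : F4) :
    co x x' (a + b) = co x x' a * co x x' b := by
  have h4 : ∀ y, x * (x * y) = y := fun y => by rw [← mul_assoc, h1, one_mul]
  have h5 : ∀ y, x' * (x' * y) = y := fun y => by rw [← mul_assoc, h2, one_mul]
  have h6 : ∀ y, x' * (x * y) = x * (x' * y) := fun y => by rw [← mul_assoc, ← h3, mul_assoc]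
  cases a <;> cases b <;>
    first
      | (change (1 : T) = _; simp [co, h1, h2, mul_assoc, h4, h5, h6, ← h3]; done)
      | (change x = _; simp [co, h1, h2, mul_assoc, h4, h5, h6, ← h3]; done)
      | (change x' = _; simp [co, h1, h2, mul_assoc, h4, h5, h6, ← h3]; done)
      | (change x * x' = _; simp [co, h1, h2, mul_assoc, h4, h5, h6, ← h3]; done)

end Coord

section Comm

variable {T : Type*} [Group T] [Finite T] {α : T →* T}

theorem comm_alpha (hf : Fpf3 α) (hT : IsPGroup 2 T) (x y : T) : ⁅α x, y⁆ = ⁅x, α y⁆ := by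
  have hl := Cfsg.Agent.OddCyclic.FpfThree.comm_mul_left hf hT
  have hr := Cfsg.Agent.OddCyclic.FpfThree.comm_mul_right hf hT
  have h0 : ∀ u, ⁅u, α u⁆ = 1 := fun u => commutatorElement_eq_one_iff_mul_comm.2 (hf.comm u)
  have h1 := h0 (x * y)
  rw [map_mul, hl, hr, hr, h0, h0, one_mul, mul_one] at h1
  rw [← commutatorElement_inv y (α x)]
  exact (eq_inv_of_mul_eq_one_left h1).symm

theorem comm_alpha_left (hf : Fpf3 α) (hT : IsPGroup 2 T) (x y : T) : ⁅α x, y⁆ = α (α ⁅x, y⁆) := by
  have h1 : ∀ x y : T, ⁅α (α x), y⁆ = α ⁅x, y⁆ := by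
    intro x y
    rw [comm_alpha hf hT (α x) y, map_commutatorElement]
  have h2 := h1 (α (α x)) y
  rw [hf.cube, h1] at h2
  exact h2

theorem comm_alpha_right (hf : Fpf3 α) (hT : IsPGroup 2 T) (x y : T) : ⁅x, α y⁆ = α (α ⁅x, y⁆) := by
  rw [← comm_alpha hf hT, comm_alpha_left hf hT]

end Comm

section Hyper

variable {T : Type*} [Group T] [Finite T] {τ α : T →* T} {V : Subgroup T}

theorem mul_alpha2 (h : Hyp τ α V) {z : T} (hz : z ∈ V) : z * α (α z) = α z := by
  have h1 := h.fpf.prod_eq_one' z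
  have h2 : α z * α z = 1 := h.sq _ (h.alpha_mem hz)
  have h3 : z * α (α z) = (α z)⁻¹ := eq_inv_of_mul_eq_one_left h1
  rw [h3]
  exact inv_eq_of_mul_eq_one_left h2

/-- the second generator -/
theorem exists_y (h : Hyp τ α V) (hT : IsPGroup 2 T) (hsq : ∀ x : T, x * x ∈ V) (hZ : center T = V) {x : T}
    (hx : x * x = 1) (hxV : x ∉ V) : ∃ y : T, y * y = 1 ∧ ⁅x, y⁆ ≠ 1 := by
  have hcV : ∀ a b : T, ⁅a, b⁆ ∈ V := by
    intro a b
    rw [← hZ]
    exact Cfsg.Agent.OddCyclic.FpfThree.comm_mem_center h.fpf hT a b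
  obtain ⟨y₀, hy₀⟩ : ∃ y₀ : T, ⁅x, y₀⁆ ≠ 1 := by
    by_contra hcon
    push Not at hcon
    apply hxV
    rw [← hZ, mem_center_iff]
    intro g
    exact (commutatorElement_eq_one_iff_mul_comm.1 (hcon g)).symm
  have hr := Cfsg.Agent.OddCyclic.FpfThree.comm_mul_right h.fpf hT
  have hl := Cfsg.Agent.OddCyclic.FpfThree.comm_mul_left h.fpf hT
  -- the square of `y₀ s`
  have key : ∀ s : T, s * s = 1 → ⁅s, y₀⁆ = y₀ * y₀ → ⁅x, s⁆ = 1 → ∃ y : T, y * y = 1 ∧ ⁅x, y⁆ ≠ 1 := by
    intro s hs hs2 hs3
    refine ⟨y₀ * s, ?_, ?_⟩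
    · have h1 : s * y₀ = ⁅s, y₀⁆ * (y₀ * s) := by rw [commutatorElement_def]; group
      calc y₀ * s * (y₀ * s) = y₀ * (s * y₀) * s := by group
        _ = y₀ * (⁅s, y₀⁆ * (y₀ * s)) * s := by rw [h1]
        _ = y₀ * ⁅s, y₀⁆ * y₀ * (s * s) := by group
        _ = ⁅s, y₀⁆ * y₀ * y₀ := by rw [hs, mul_one, h.cen _ (hcV s y₀) y₀]
        _ = (y₀ * y₀) * (y₀ * y₀) := by rw [hs2, mul_assoc]
        _ = 1 := h.sq _ (hsq y₀)
    · rw [hr, hs3, mul_one]
      exact hy₀
  have hxα : x * α x = α x * x := h.fpf.comm x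
  have hαx : α x * α x = 1 := by rw [← map_mul, hx, map_one]
  have hxx : ⁅x, x⁆ = 1 := commutatorElement_self x
  have hxax : ⁅x, α x⁆ = 1 := commutatorElement_eq_one_iff_mul_comm.2 hxα
  rcases four_cases h.fpf (fun v hv => h.alpha_mem hv) h.card (hcV x y₀) hy₀ (hsq y₀) with e | e | e | e
  · exact key 1 (mul_one 1) (by rw [commutatorElement_one_left, e]) (commutatorElement_one_right x)
  · exact key x hx e.symm hxx
  · refine key (x * α x) ?_ ?_ ?_
    · calc x * α x * (x * α x) = x * (α x * x) * α x := by group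
        _ = x * (x * α x) * α x := by rw [hxα]
        _ = (x * x) * (α x * α x) := by group
        _ = 1 := by rw [hx, hαx, one_mul]
    · rw [hl, comm_alpha_left h.fpf hT, mul_alpha2 h (hcV x y₀), e]
    · rw [hr, hxx, hxax, one_mul]
  · exact key (α x) hαx (by rw [comm_alpha_left h.fpf hT, e]) hxax

/-- **coordinates** -/
theorem exists_coord (h : Hyp τ α V) (hT : IsPGroup 2 T) (hsq : ∀ x : T, x * x ∈ V) (hZ : center T = V)
    (hcard : Nat.card T = 64) {x : T} (hx : x * x = 1) (hxV : x ∉ V) :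
    ∃ f : F4 → F4 → F4 → T, (∀ a b c a' b' c', f a b c * f a' b' c' = f (a + a') (b + b') (c + c' + a * b')) ∧
      Function.Bijective (fun p : F4 × F4 × F4 => f p.1 p.2.1 p.2.2) := by
  have hcV : ∀ a b : T, ⁅a, b⁆ ∈ V := by
    intro a b
    rw [← hZ]
    exact Cfsg.Agent.OddCyclic.FpfThree.comm_mem_center h.fpf hT a b
  have hr := Cfsg.Agent.OddCyclic.FpfThree.comm_mul_right h.fpf hT
  have hl := Cfsg.Agent.OddCyclic.FpfThree.comm_mul_left h.fpf hT
  obtain ⟨y, hy, hxy⟩ := exists_y h hT hsq hZ hx hxV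
  set z := ⁅x, y⁆ with hz
  have hzV : z ∈ V := hcV x y
  have hz2V : α (α z) ∈ V := h.alpha_mem (h.alpha_mem hzV)
  have hαx : α x * α x = 1 := by rw [← map_mul, hx, map_one]
  have hαy : α y * α y = 1 := by rw [← map_mul, hy, map_one]
  have hX := co_add hx hαx (h.fpf.comm x)
  have hY := co_add hy hαy (h.fpf.comm y)
  have hZ' := co_add (h.sq z hzV) (h.sq _ hz2V) (h.cen z hzV (α (α z)))
  have hcoV : ∀ c, co z (α (α z)) c ∈ V := by
    intro c
    cases c
    · exact V.one_mem
    · exact hzV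
    · exact hz2V
    · exact V.mul_mem hzV hz2V
  -- the commutators
  have c11 : ⁅x, y⁆ = z := rfl
  have c21 : ⁅α x, y⁆ = α (α z) := comm_alpha_left h.fpf hT x y
  have c12 : ⁅x, α y⁆ = α (α z) := comm_alpha_right h.fpf hT x y
  have c22 : ⁅α x, α y⁆ = α z := (map_commutatorElement α x y).symm
  have e1 : z * α (α z) = α z := mul_alpha2 h hzV
  have e2 : α (α z) * α z = z := by
    have h5 := mul_alpha2 h (h.alpha_mem (h.alpha_mem hzV))
    simp only [h.fpf.cube] at h5
    exact h5
  have e4 : z * α z = α (α z) := by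
    have h5 := mul_alpha2 h (h.alpha_mem hzV)
    rw [h.fpf.cube] at h5
    rw [h.cen _ hzV]
    exact h5
  have hCo : ∀ a b, ⁅co x (α x) a, co y (α y) b⁆ = co z (α (α z)) (a * b) := by
    have z3 : α (α z) * α (α z) = 1 := h.sq _ hz2V
    have k1 : z * α (α z) * (α (α z) * α z) = α (α z) := by
      calc z * α (α z) * (α (α z) * α z) = z * (α (α z) * α (α z)) * α z := by group
        _ = z * α z := by rw [z3, mul_one]
        _ = _ := e4
    intro a b
    cases a <;> cases b
    · change _ = (1 : T); simp [co]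
    · change _ = (1 : T); simp [co]
    · change _ = (1 : T); simp [co]
    · change _ = (1 : T); simp [co]
    · change _ = (1 : T); simp [co]
    · rfl
    · change ⁅x, α y⁆ = α (α z); exact c12
    · change ⁅x, y * α y⁆ = z * α (α z); rw [hr, c12]
    · change _ = (1 : T); simp [co]
    · change ⁅α x, y⁆ = α (α z); exact c21
    · change ⁅α x, α y⁆ = z * α (α z); rw [c22, e1]
    · change ⁅α x, y * α y⁆ = z; rw [hr, c21, c22, e2]
    · change _ = (1 : T); simp [co]
    · change ⁅x * α x, y⁆ = z * α (α z); rw [hl, c21]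
    · change ⁅x * α x, α y⁆ = z; rw [hl, c12, c22, e2]
    · change ⁅x * α x, y * α y⁆ = α (α z); rw [hl, hr, hr, c12, c21, c22, k1]
  have hswap : ∀ a b, co x (α x) a * co y (α y) b = co y (α y) b * co x (α x) a * co z (α (α z)) (a * b) := by
    intro a b
    have h1 : co x (α x) a * co y (α y) b = ⁅co x (α x) a, co y (α y) b⁆ * (co y (α y) b * co x (α x) a) := by
      rw [commutatorElement_def]; group
    rw [h1, hCo, h.cen _ (hcoV (a * b))]
  have hVm : ∀ c t, co z (α (α z)) c * t = t * co z (α (α z)) c := fun c t => h.cen _ (hcoV c) t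
  refine ⟨fun a b c => co y (α y) b * co x (α x) a * co z (α (α z)) c, ?_, ?_⟩
  · intro a b c a' b' c'
    change co y (α y) b * co x (α x) a * co z (α (α z)) c * (co y (α y) b' * co x (α x) a' * co z (α (α z)) c') =
      co y (α y) (b + b') * co x (α x) (a + a') * co z (α (α z)) (c + c' + a * b')
    rw [hX, hY, hZ', hZ']
    calc co y (α y) b * co x (α x) a * co z (α (α z)) c * (co y (α y) b' * co x (α x) a' * co z (α (α z)) c')
        = co y (α y) b * co x (α x) a * (co z (α (α z)) c * (co y (α y) b' * co x (α x) a')) *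
          co z (α (α z)) c' := by group
      _ = co y (α y) b * (co x (α x) a * co y (α y) b') * co x (α x) a' * co z (α (α z)) c *
          co z (α (α z)) c' := by rw [hVm]; group
      _ = co y (α y) b * co y (α y) b' * co x (α x) a * (co z (α (α z)) (a * b') * co x (α x) a') *
          co z (α (α z)) c * co z (α (α z)) c' := by rw [hswap]; group
      _ = co y (α y) b * co y (α y) b' * (co x (α x) a * co x (α x) a') *
          (co z (α (α z)) (a * b') * (co z (α (α z)) c * co z (α (α z)) c')) := by rw [hVm]; group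
      _ = _ := by rw [hVm (a * b')]
  · have hzinj : ∀ c, co z (α (α z)) c = 1 → c = 0 := by
      intro c hc
      have n1 : α z ≠ 1 := fun e => hxy (h.fpf.map_eq_one e)
      have n2 : α (α z) ≠ 1 := fun e => n1 (h.fpf.map_eq_one e)
      cases c
      · rfl
      · exact (hxy hc).elim
      · exact (n2 hc).elim
      · change z * α (α z) = 1 at hc
        rw [e1] at hc
        exact (n1 hc).elim
    have hcc : ∀ a b, co z (α (α z)) a * co z (α (α z)) b = 1 → a = b := by
      intro a b e
      rw [← hZ'] at e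
      have := hzinj _ e
      have h2 : b = -b := by cases b <;> rfl
      rw [h2]
      exact eq_neg_of_add_eq_zero_left this
    -- the commutators with `x` and `y` determine `b` and `a`
    have hx1 : ∀ a b c, ⁅x, co y (α y) b * co x (α x) a * co z (α (α z)) c⁆ = co z (α (α z)) b := by
      intro a b c
      have t1 : ⁅x, co x (α x) a⁆ = 1 := by
        rw [commutatorElement_eq_one_iff_mul_comm]
        cases a
        · change x * 1 = 1 * x; simp
        · rfl
        · exact h.fpf.comm x
        · change x * (x * α x) = x * α x * x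
          rw [mul_assoc, ← h.fpf.comm x]
      have t2 : ⁅x, co z (α (α z)) c⁆ = 1 := commutatorElement_eq_one_iff_mul_comm.2 (hVm c x).symm
      have t3 : ⁅x, co y (α y) b⁆ = co z (α (α z)) b := by
        have := hCo .i b
        have e5 : (F4.i : F4) * b = b := by cases b <;> rfl
        rw [e5] at this
        exact this
      rw [hr, hr, t1, t2, t3, mul_one, mul_one]
    have hy1 : ∀ a b c, ⁅co y (α y) b * co x (α x) a * co z (α (α z)) c, y⁆ = co z (α (α z)) a := by
      intro a b c
      have t1 : ⁅co y (α y) b, y⁆ = 1 := by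
        rw [commutatorElement_eq_one_iff_mul_comm]
        cases b
        · change 1 * y = y * 1; simp
        · rfl
        · exact (h.fpf.comm y).symm
        · change y * α y * y = y * (y * α y)
          rw [mul_assoc, ← h.fpf.comm y]
      have t2 : ⁅co z (α (α z)) c, y⁆ = 1 := commutatorElement_eq_one_iff_mul_comm.2 (hVm c y)
      have t3 : ⁅co x (α x) a, y⁆ = co z (α (α z)) a := by
        have := hCo a .i
        have e5 : a * (F4.i : F4) = a := by cases a <;> rfl
        rw [e5] at this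
        exact this
      rw [hl, hl, t1, t2, t3, mul_one, one_mul]
    have hzz : ∀ a, co z (α (α z)) a * co z (α (α z)) a = 1 := fun a => h.sq _ (hcoV a)
    have hinj : Function.Injective (fun p : F4 × F4 × F4 =>
        co y (α y) p.2.1 * co x (α x) p.1 * co z (α (α z)) p.2.2) := by
      rintro ⟨a, b, c⟩ ⟨a', b', c'⟩ e
      have e' : co y (α y) b * co x (α x) a * co z (α (α z)) c =
        co y (α y) b' * co x (α x) a' * co z (α (α z)) c' := e
      have hb : b = b' := by
        apply hcc b b'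
        rw [← hx1 a b c, e', hx1]
        exact hzz b'
      have ha : a = a' := by
        apply hcc a a'
        rw [← hy1 a b c, e', hy1]
        exact hzz a'
      subst hb ha
      have hc : c = c' := by
        apply hcc c c'
        rw [mul_left_cancel e']
        exact hzz c'
      rw [hc]
    refine hinj.bijective_of_nat_card_le ?_
    rw [Nat.card_prod, Nat.card_prod, F4.natCard, hcard]

/-- **the isomorphism with `UT₃(4)`** -/
theorem nonempty_UT (h : Hyp τ α V) (hT : IsPGroup 2 T) (hsq : ∀ x : T, x * x ∈ V) (hZ : center T = V)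
    (hcard : Nat.card T = 64) {x : T} (hx : x * x = 1) (hxV : x ∉ V) :
    Nonempty (T ≃* Cfsg.Agent.SylowL.UT.UT 3 F4) := by
  obtain ⟨f, hmul, hbij⟩ := exists_coord h hT hsq hZ hcard hx hxV
  choose A B C hABC using (Cfsg.Agent.TypeL3.exists_el (F := F4))
  have hA : ∀ a b c : F4, A (Cfsg.Agent.TypeL3.el a b c) = a ∧ B (Cfsg.Agent.TypeL3.el a b c) = b ∧
      C (Cfsg.Agent.TypeL3.el a b c) = c := by
    intro a b c
    have := Cfsg.Agent.TypeL3.el_inj.1 (hABC (Cfsg.Agent.TypeL3.el a b c))
    exact ⟨this.1.symm, this.2.1.symm, this.2.2.symm⟩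
  let ψ : Cfsg.Agent.SylowL.UT.UT 3 F4 →* T := MonoidHom.mk' (fun g => f (A g) (B g) (C g)) (by
    intro g g'
    have e : g * g' = Cfsg.Agent.TypeL3.el (A g + A g') (B g + B g') (C g + C g' + A g * B g') := by
      conv_lhs => rw [hABC g, hABC g']
      rw [Cfsg.Agent.TypeL3.el_mul]
    obtain ⟨h1, h2, h3⟩ := hA (A g + A g') (B g + B g') (C g + C g' + A g * B g')
    rw [hmul, e, h1, h2, h3])
  have hψ : Function.Bijective ψ := by
    constructor
    · intro g g' e
      have e' : f (A g) (B g) (C g) = f (A g') (B g') (C g') := e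
      have h1 := hbij.1 (a₁ := (A g, B g, C g)) (a₂ := (A g', B g', C g')) e'
      rw [hABC g, hABC g']
      simp only [Prod.mk.injEq] at h1
      rw [h1.1, h1.2.1, h1.2.2]
    · intro t
      obtain ⟨⟨a, b, c⟩, e⟩ := hbij.2 t
      refine ⟨Cfsg.Agent.TypeL3.el a b c, ?_⟩
      obtain ⟨h1, h2, h3⟩ := hA a b c
      change f _ _ _ = t
      rw [h1, h2, h3]
      exact e
  exact ⟨(MulEquiv.ofBijective ψ hψ).symm⟩

end Hyper

/-- **the classification** -/
theorem main {T : Type*} [Group T] [Finite T] {τ α : T →* T} {V : Subgroup T} (h : Hyp τ α V) (hT : IsPGroup 2 T) :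
    (Nat.card T = 16 ∧ ∀ x : T, x * x = 1) ∨
    (∃ n : ℕ, 1 ≤ n ∧ Nonempty (T ≃* Multiplicative (ZMod (2 ^ n)) × Multiplicative (ZMod (2 ^ n)))) ∨
    (∀ P : Sylow 2 (Matrix.ProjectiveSpecialLinearGroup (Fin 3) F4),
      Nonempty (T ≃* ↥(P : Subgroup (Matrix.ProjectiveSpecialLinearGroup (Fin 3) F4)))) ∨
    (∀ (F : Type) [Field F] [Fintype F], Fintype.card F = 16 → ∀ P : Sylow 2 (Cfsg.PSU 3 F 4),
      Nonempty (T ≃* ↥(P : Subgroup (Cfsg.PSU 3 F 4)))) := by
  by_cases hab : ∀ x y : T, x * y = y * x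
  · rcases h.abelian hT hab with h1 | h1
    · exact Or.inl h1
    · right; left
      obtain ⟨n, ⟨e⟩⟩ := exists_mulEquiv' hab hT h.fpf (h.card_sq_le h1)
      refine ⟨n, ?_, ⟨e.trans (MulEquiv.prodMultiplicative _ _)⟩⟩
      by_contra hn
      have hn0 : n = 0 := by omega
      subst hn0
      have h2 : Nat.card T = 1 := by
        rw [Nat.card_congr e.toEquiv]
        simp
      have h3 : Nat.card ↥V ∣ Nat.card T := Subgroup.card_subgroup_dvd_card V
      rw [h2, h.card] at h3
      omega
  · right; right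
    obtain ⟨hcard, hsq, hZ⟩ := h.nonabelian hT hab
    by_cases hE : ∀ t : T, t * t = 1 → t ∈ center T
    · right
      intro F i1 i2 hF P
      refine Cfsg.Agent.TwoFusion.U34Unique.nonempty_mulEquiv hcard α h.fpf.cube h.fpf.fpf ?_ ?_ ?_ hF P
      · rw [hZ, h.card]
      · intro t
        rw [hZ]
        exact hsq t
      · intro t
        refine ⟨hE t, fun ht => ?_⟩
        rw [hZ] at ht
        exact h.sq t ht
    · left
      push Not at hE
      obtain ⟨x, hx, hxZ⟩ := hE
      rw [hZ] at hxZ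
      obtain ⟨e⟩ := nonempty_UT h hT hsq hZ hcard hx hxZ
      intro P
      have : Fact (Nat.Prime 2) := ⟨Nat.prime_two⟩
      have : CharP F4 2 := by
        have h2 : CharP F4 (ringChar F4) := inferInstance
        have h3 : (2 : F4) = 0 := by decide
        have h4 : ringChar F4 ∣ 2 := (ringChar.spec F4 2).1 (by exact_mod_cast h3)
        have h5 : ringChar F4 = 2 := by
          rcases (Nat.dvd_prime Nat.prime_two).1 h4 with h5 | h5
          · exfalso
            have h6 : ((1 : ℕ) : F4) = 0 := (ringChar.spec F4 1).2 (by rw [h5])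
            rw [Nat.cast_one] at h6
            exact one_ne_zero h6
          · exact h5
        rwa [h5] at h2
      obtain ⟨e'⟩ := Cfsg.Agent.SylowL.SylowPSL.sylow_equiv 2 P
      exact ⟨e.trans e'.symm⟩

end Cfsg.Agent.H248.FourAct
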