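import Cfsg.Agent.H609.TH.Link
import Cfsg.Agent.OrdDiv.Table
import Cfsg.Agent.H291.SCBaby
import Cfsg.Agent.H995.CopB
import Cfsg.Agent.H384.LargeIdxB
import Cfsg.Agent.H715.Mon.Exact

/-!
# S3938 (3/2-generation): the row of the Baby Monster (helper248)

`r = 47`: the only simple overgroups of an element of order 47 are groups `L₂(47)`, few of them; the indices of the
proper subgroups are at least `2752512`.
-/

set_option autoImplicit false
set_option maxRecDepth 100000

namespace Cfsg.Agent.H248.SprB

open Cfsg Subgroup Cfsg.Agent.H609.TH Cfsg.Agent.OrdDiv Cfsg.Agent.H257.El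
open Cfsg.Agent.H995.CopTwo (lB)

theorem chk_47 : chkN 4154781481226426191177580544000000 lB 47 = true := by decide +kernel

theorem surv_47 : ∀ g ∈ surv 4154781481226426191177580544000000 lB 47 [], g = Grp.psl 2 47 := by decide +kernel

theorem free_47 (known : Known.{0}) : Free 47 Spor.BabyMonster := by
  have hfin : Finite Spor.BabyMonster := CTwoTab.BInst.finite_B
  intro y hy q hq hq47 R hR hyR
  have hF : Fact q.Prime := ⟨hq⟩
  have h47 : ¬ 47 ∣ Nat.card R := by
    intro h
    obtain ⟨b, hb⟩ := IsPGroup.iff_card.1 hR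
    rw [hb] at h
    exact hq47 ((Nat.prime_dvd_prime_iff_eq (by norm_num) hq).1 ((by norm_num : Nat.Prime 47).dvd_of_dvd_pow h)).symm
  have h1 := Cfsg.Agent.H291.SCBaby.bHyp.triv hy hyR h47
  have hle : R ≤ centralizer ({y} : Set Spor.BabyMonster) := fun a ha => by
    rw [mem_centralizer_singleton_iff]
    exact (h1 a ha).symm
  have h2 := card_dvd_of_le hle
  rw [Cfsg.Agent.H291.SCBaby.sc known y hy] at h2
  rw [← card_eq_one]
  exact ((Nat.dvd_prime (by norm_num)).1 h2).resolve_right fun h => h47 (by rw [h])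

theorem spr_model (known : Known.{0}) : Cfsg.Agent.H424.Spr.Spr Spor.BabyMonster := by
  have hfin : Finite Spor.BabyMonster := CTwoTab.BInst.finite_B
  have c23 : ∀ a : Spor.BabyMonster, orderOf a = 23 → Nat.card (centralizer ({a} : Set Spor.BabyMonster)) = 46 :=
    fun a ha => Cfsg.Agent.H715.Mon.Exact.B.cent23 (Cfsg.Agent.H715.Mon.Grp.sThree ⟨OrdDiv.table, known⟩)
      ⟨MulEquiv.refl _⟩ ha
  have hcard : Nat.card Spor.BabyMonster = 4154781481226426191177580544000000 := Cfsg.Agent.H713.Spor.B.card_b
  refine spr_of_ltwo_count (r := 47) (l := lB) (c := 27) (D := 1509450814828936691712000000) OrdDiv.table known hcard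
    (by norm_num) chk_47 (free_47 known) (Cfsg.Agent.H291.SCBaby.sc known) surv_47 ?_ ?_ (by norm_num)
  · intro a t ha _
    rw [c23 a ha]
    norm_num
  · intro α hα
    obtain ⟨H, hH⟩ : ∃ H : Subgroup Spor.BabyMonster, (H : Set Spor.BabyMonster) = {x | α x = x} :=
      ⟨{ carrier := {x | α x = x}, mul_mem' := fun {a b} ha hb => by
          rw [Set.mem_ofPred_eq] at ha hb ⊢
          rw [map_mul, ha, hb], one_mem' := map_one α, inv_mem' := fun {a} ha => by
          rw [Set.mem_ofPred_eq] at ha ⊢
          rw [map_inv, ha] }, rfl⟩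
    have htop : H ≠ ⊤ := by
      intro h
      have : α = 1 := by
        ext x
        have h1 : x ∈ (H : Set Spor.BabyMonster) := by rw [h]; exact mem_top x
        rw [hH] at h1
        exact h1
      rw [this, orderOf_one] at hα
      exact Nat.not_prime_one hα
    have h1 := H384.LargeIdxB.baby.index H htop
    have h2 := H.card_mul_index
    rw [hcard] at h2
    have h3 : Nat.card {x : Spor.BabyMonster // α x = x} = Nat.card H :=
      Nat.card_congr (Equiv.setCongr hH.symm)
    rw [h3]
    by_contra hlt
    push Not at hlt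
    have h4 : 1509450814828936691712000000 * 2752512 < Nat.card H * H.index :=
      lt_of_lt_of_le (Nat.mul_lt_mul_of_pos_right hlt (by norm_num)) (Nat.mul_le_mul_left _ h1)
    rw [h2] at h4
    norm_num at h4

/-- **S3938 for the Baby Monster** -/
theorem spr_b (known : Known.{0}) {T : Type} [Group T] [Finite T] (h : Spor.IsoB T) : Cfsg.Agent.H424.Spr.Spr T := by
  obtain ⟨e⟩ := h
  exact Cfsg.Agent.H424.Spr.Spr.congr e.symm (spr_model known)

end Cfsg.Agent.H248.SprB
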