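import Cfsg.Agent.H609.TH.Link
import Cfsg.Agent.OrdDiv.Table
import Cfsg.Agent.H723.Spor.JFour

/-!
# S3938 (3/2-generation): the row `J₄` (helper248)

`r = 29`: the only simple overgroups of an element of order 29 are groups `L₂(29)`, at most 180 of them; all
automorphisms are inner; centralizers have order at most `|J₄| / (23 * 29 * 31 * 37 * 43)`.
-/

set_option autoImplicit false

namespace Cfsg.Agent.H248.SprJ4

open Cfsg Subgroup Cfsg.Agent.H609.TH Cfsg.Agent.OrdDiv Cfsg.Agent.H257.El
open Cfsg.Agent.H723.Spor.JFour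

/-- the factorization of the order -/
def lJ4 : List (ℕ × ℕ) :=
  [(2, 21), (3, 3), (5, 1), (7, 1), (11, 3), (23, 1), (29, 1), (31, 1), (37, 1), (43, 1)]

theorem card_J4 : Nat.card Spor.J4 = 86775571046077562880 := Cfsg.Agent.H858.FixJ4.card_J4

theorem sc_29 : Cfsg.Agent.H537.Cop.SC 29 Spor.J4 := fun _ hx => cent_big (by simp) hx

theorem chk_29 : chkN 86775571046077562880 lJ4 29 = true := by decide +kernel

theorem ok_29 : okAll lJ4 29 = true := by decide +kernel

theorem surv_29 : ∀ g ∈ surv 86775571046077562880 lJ4 29 [], g = Grp.psl 2 29 := by decide +kernel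

theorem free_29 : Free 29 Spor.J4 :=
  free_of_sc card_J4 (of_chkN chk_29).1 (by norm_num) sc_29 ok_29

/-- centralizers -/
theorem card_cent_le {g : Spor.J4} (hg : g ≠ 1) :
    Nat.card (centralizer ({g} : Set Spor.J4)) ≤ 2637787299840 := by
  by_cases hp : ∃ p, (p = 23 ∨ p = 29 ∨ p = 31 ∨ p = 37 ∨ p = 43) ∧ p ∣ Nat.card (centralizer ({g} : Set Spor.J4))
  · obtain ⟨p, hp, hd⟩ := hp
    have hpf : Fact p.Prime := ⟨prime_big hp⟩
    obtain ⟨⟨y, hy⟩, hy'⟩ := exists_prime_orderOf_dvd_card' p hd
    rw [orderOf_mk] at hy'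
    have h1 : g ∈ centralizer ({y} : Set Spor.J4) := by
      rw [mem_centralizer_singleton_iff] at hy ⊢
      exact hy.symm
    have h2 : orderOf g ∣ p := by
      rw [← cent_big hp hy', ← orderOf_mk g h1]
      exact orderOf_dvd_natCard _
    have h3 : orderOf g = p := ((Nat.dvd_prime hpf.out).1 h2).resolve_left fun h => hg (orderOf_eq_one_iff.1 h)
    rw [cent_big hp h3]
    rcases hp with rfl | rfl | rfl | rfl | rfl <;> norm_num
  · push Not at hp
    have hd : Nat.card (centralizer ({g} : Set Spor.J4)) ∣ (23 * 29 * 31 * 37 * 43) * 2637787299840 := by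
      have h := Subgroup.card_subgroup_dvd_card (centralizer ({g} : Set Spor.J4))
      rw [card_J4] at h
      exact h
    have hc : ∀ p, (p = 23 ∨ p = 29 ∨ p = 31 ∨ p = 37 ∨ p = 43) →
        Nat.Coprime (Nat.card (centralizer ({g} : Set Spor.J4))) p := fun p h =>
      ((Nat.Prime.coprime_iff_not_dvd (prime_big h)).2 (hp p h)).symm
    have h1 : Nat.Coprime (Nat.card (centralizer ({g} : Set Spor.J4))) (23 * 29 * 31 * 37 * 43) :=
      ((((hc 23 (by simp)).mul_right (hc 29 (by simp))).mul_right (hc 31 (by simp))).mul_right (hc 37 (by simp))).mul_right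
        (hc 43 (by simp))
    exact Nat.le_of_dvd (by norm_num) (h1.dvd_of_dvd_mul_left hd)

theorem card_cent_14 {a : Spor.J4} (ha : orderOf a = 14) : Nat.card (centralizer ({a} : Set Spor.J4)) ≤ 2520 := by
  have h1 : orderOf (a ^ 2) = 7 := by rw [orderOf_pow_of_dvd (by norm_num) (by rw [ha]; norm_num), ha]
  have h2 := Cfsg.Agent.H859.BigCent.card_normalizer_seven (P := zpowers (a ^ 2)) (by rw [Nat.card_zpowers, h1])
  rw [← h2]
  refine Nat.le_of_dvd Nat.card_pos (Subgroup.card_dvd_of_le ?_)
  refine le_trans ?_ (Subgroup.centralizer_le_normalizer _)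
  rw [centralizer_zpowers_eq]
  intro x hx
  rw [mem_centralizer_singleton_iff] at hx ⊢
  exact ((show Commute x a from hx).pow_right 2).eq

/-- **S3938 for `J₄`** -/
theorem spr_model (known : Known.{0}) : Cfsg.Agent.H424.Spr.Spr Spor.J4 := by
  refine spr_of_ltwo_count (r := 29) (l := lJ4) (c := 180) (D := 2637787299840) OrdDiv.table known card_J4 (by norm_num)
    chk_29 free_29 sc_29 surv_29 ?_ ?_ (by norm_num)
  · intro a t ha _
    have := card_cent_14 ha
    omega
  · intro α hα
    obtain ⟨g, rfl⟩ := inner α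
    have hg : g ≠ 1 := by
      rintro rfl
      rw [map_one, orderOf_one] at hα
      exact Nat.not_prime_one hα
    refine le_trans (le_of_eq ?_) (card_cent_le hg)
    refine Nat.card_congr (Equiv.subtypeEquivRight fun x => ?_)
    rw [mem_centralizer_singleton_iff, MulAut.conj_apply, mul_inv_eq_iff_eq_mul]
    exact eq_comm

theorem spr_j4 (known : Known.{0}) {T : Type} [Group T] [Finite T] (h : Spor.IsoJ4 T) : Cfsg.Agent.H424.Spr.Spr T := by
  obtain ⟨e⟩ := h
  exact Cfsg.Agent.H424.Spr.Spr.congr e.symm (spr_model known)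

end Cfsg.Agent.H248.SprJ4
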